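import Cfsg.Agent.H577.GLB.Lab
import Cfsg.Agent.H624.Sl.Defs

/-!
# Linear characters of `GL_n(F)` and labels
-/

set_option autoImplicit false
set_option linter.unusedSectionVars false

open Cfsg Polynomial
open scoped MatrixGroups

namespace Cfsg.Agent.H666.Clif

open Cfsg.Agent.H614.GLn Cfsg.Agent.H577.GLB.Std Cfsg.Agent.H577.GLB.Real Cfsg.Agent.H624.Sl

universe u w

section

variable {F : Type u} [Field F] {K : Type w} [Field K] [Algebra F K] {θ : K →*₀ ℂ} {N M : ℕ}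

theorem hom_pow_add {A B : Type*} [Monoid A] [CommMonoid B] (f : A →* B) (i j : ℕ) :
    f ^ (i + j) = f ^ i * f ^ j := by
  ext x
  rw [MonoidHom.pow_apply, MonoidHom.mul_apply, MonoidHom.pow_apply, MonoidHom.pow_apply, pow_add]

theorem hom_pow_zero {A B : Type*} [Monoid A] [CommMonoid B] (f : A →* B) : f ^ 0 = 1 := by
  ext x
  rw [MonoidHom.pow_apply, pow_zero]
  rfl

theorem hom_pow_succ {A B : Type*} [Monoid A] [CommMonoid B] (f : A →* B) (i : ℕ) :
    f ^ (i + 1) = f ^ i * f := by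
  ext x
  rw [MonoidHom.pow_apply, MonoidHom.mul_apply, MonoidHom.pow_apply, pow_succ]

/-- the basic linear character of `Fˣ` -/
noncomputable def thH (F : Type u) [Field F] {K : Type w} [Field K] [Algebra F K] (θ : K →*₀ ℂ) : Fˣ →* ℂˣ :=
  (Units.map (θ : K →* ℂ)).comp (Units.map (algebraMap F K : F →* K))

theorem linH_eq (a : ZMod M) : linH F θ M a = thH F θ ^ expo (Nat.card F) M 1 a := by
  ext y
  simp [linH, thH]

variable (hctx : Ctx F θ N M)
include hctx

theorem two_le_card : 2 ≤ Nat.card F := by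
  have := hctx.finF
  exact Finite.one_lt_card

theorem thH_injective : Function.Injective (thH F θ) := by
  intro x y h
  have h1 := congrArg (fun z : ℂˣ => (z : ℂ)) h
  simp only [thH, MonoidHom.comp_apply, Units.coe_map] at h1
  have h2 := hctx.inj h1
  exact Units.ext ((algebraMap F K).injective h2)

theorem card_units : Nat.card Fˣ = Nat.card F - 1 := by
  classical
  have := hctx.finF
  have := Fintype.ofFinite F
  rw [Nat.card_eq_fintype_card, Nat.card_eq_fintype_card, Fintype.card_units]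

theorem thH_pow : thH F θ ^ (Nat.card F - 1) = 1 := by
  have := hctx.finF
  ext y
  rw [MonoidHom.pow_apply, ← map_pow, ← card_units hctx, pow_card_eq_one', map_one]
  rfl

theorem orderOf_thH : orderOf (thH F θ) = Nat.card F - 1 := by
  have := hctx.finF
  refine Nat.dvd_antisymm (orderOf_dvd_of_pow_eq_one (thH_pow hctx)) ?_
  rw [← card_units hctx, ← IsCyclic.exponent_eq_card]
  refine Monoid.exponent_dvd_of_forall_pow_eq_one fun y => ?_
  apply thH_injective hctx
  rw [map_pow, map_one, ← MonoidHom.pow_apply, pow_orderOf_eq_one]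
  rfl

theorem thH_gen (α : Fˣ →* ℂˣ) : ∃ e : ℕ, α = thH F θ ^ e := by
  have := hctx.finF
  obtain ⟨g, hg⟩ := IsCyclic.exists_generator (α := Fˣ)
  have ho : orderOf g = Nat.card Fˣ := orderOf_eq_card_of_forall_mem_zpowers hg
  have hpos : 0 < orderOf g := orderOf_pos g
  have h1 : IsPrimitiveRoot ((thH F θ g : ℂˣ) : ℂ) (orderOf g) := by
    rw [IsPrimitiveRoot.coe_units_iff, IsPrimitiveRoot.iff_orderOf]
    exact orderOf_injective (thH F θ) (thH_injective hctx) g
  have : NeZero (orderOf g) := ⟨hpos.ne'⟩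
  obtain ⟨e, -, he⟩ := h1.eq_pow_of_pow_eq_one (ξ := ((α g : ℂˣ) : ℂ)) (by
    rw [← Units.val_pow_eq_pow_val, ← map_pow, pow_orderOf_eq_one, map_one, Units.val_one])
  refine ⟨e, ?_⟩
  have h2 : α g = (thH F θ ^ e) g := by
    apply Units.ext
    rw [MonoidHom.pow_apply, Units.val_pow_eq_pow_val, he]
  ext y
  obtain ⟨k, rfl⟩ := Subgroup.mem_zpowers_iff.1 (hg y)
  rw [map_zpow, map_zpow, h2]

variable (hN : 1 ≤ N)
include hN

/-- `M / (q - 1)` -/
theorem exists_dd [NeZero M] : ∃ d : ℕ, 0 < d ∧ M = d * (Nat.card F - 1) := by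
  have h1 := hctx.dvd 1 one_pos hN
  rw [pow_one] at h1
  obtain ⟨d, hd⟩ := h1
  refine ⟨d, ?_, by rw [hd, mul_comm]⟩
  rcases Nat.eq_zero_or_pos d with h | h
  · exfalso
    apply NeZero.ne M
    rw [hd, h, mul_zero]
  · exact h

theorem torZ_one_iff [NeZero M] (a : ZMod M) : TorZ (Nat.card F) M 1 a ↔
    (Nat.card F - 1) • a = 0 := by
  have h2 := two_le_card hctx
  rw [TorZ, pow_one, nsmul_eq_mul, Nat.cast_sub (by omega)]
  push_cast
  rfl

theorem expo_mul [NeZero M] {d : ℕ} (hd : M = d * (Nat.card F - 1)) (e : ℕ) :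
    expo (Nat.card F) M 1 ((d * e : ℕ) : ZMod M) = e % (Nat.card F - 1) := by
  have h2 := two_le_card hctx
  have hM := Nat.pos_of_ne_zero (NeZero.ne M)
  have hd0 : 0 < d := by
    rcases Nat.eq_zero_or_pos d with h | h
    · rw [h, zero_mul] at hd
      omega
    · exact h
  rw [expo, pow_one, ZMod.val_natCast, hd, Nat.mul_mod_mul_left, mul_assoc, mul_comm (e % _) _, ← mul_assoc,
    Nat.mul_div_cancel_left _ (by rw [← hd]; exact hM)]

theorem exists_rep [NeZero M] {d : ℕ} (hd : M = d * (Nat.card F - 1)) {a : ZMod M}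
    (ha : TorZ (Nat.card F) M 1 a) : ∃ e : ℕ, e < Nat.card F - 1 ∧ a = ((d * e : ℕ) : ZMod M) := by
  have h2 := two_le_card hctx
  have hM := Nat.pos_of_ne_zero (NeZero.ne M)
  have h3 : 0 < Nat.card F - 1 := by omega
  rw [torZ_one_iff hctx hN] at ha
  have h1 : M ∣ (Nat.card F - 1) * a.val := by
    rw [← ZMod.natCast_eq_zero_iff, Nat.cast_mul, ZMod.natCast_zmod_val, ← nsmul_eq_mul]
    exact ha
  have h4 : d ∣ a.val := by
    have h5 : (Nat.card F - 1) * d ∣ (Nat.card F - 1) * a.val := by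
      rw [mul_comm, ← hd]
      exact h1
    exact Nat.dvd_of_mul_dvd_mul_left h3 h5
  obtain ⟨e, he⟩ := h4
  refine ⟨e, ?_, ?_⟩
  · have h5 := ZMod.val_lt a
    rw [he] at h5
    have h6 : d * e < d * (Nat.card F - 1) := hd ▸ h5
    exact Nat.lt_of_mul_lt_mul_left h6
  · rw [← he, ZMod.natCast_zmod_val]

theorem torZ_rep [NeZero M] {d : ℕ} (hd : M = d * (Nat.card F - 1)) (e : ℕ) :
    TorZ (Nat.card F) M 1 ((d * e : ℕ) : ZMod M) := by
  rw [torZ_one_iff hctx hN, nsmul_eq_mul, ← Nat.cast_mul, ZMod.natCast_eq_zero_iff]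
  refine ⟨e, ?_⟩
  nth_rewrite 1 [hd]
  ring

theorem linH_rep [NeZero M] {d : ℕ} (hd : M = d * (Nat.card F - 1)) (e : ℕ) :
    linH F θ M ((d * e : ℕ) : ZMod M) = thH F θ ^ e := by
  rw [linH_eq, expo_mul hctx hN hd, ← orderOf_thH hctx, pow_mod_orderOf]

theorem linH_add [NeZero M] {a b : ZMod M} (ha : TorZ (Nat.card F) M 1 a)
    (hb : TorZ (Nat.card F) M 1 b) : linH F θ M (a + b) = linH F θ M a * linH F θ M b := by
  obtain ⟨d, -, hd⟩ := exists_dd hctx hN
  obtain ⟨e, -, rfl⟩ := exists_rep hctx hN hd ha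
  obtain ⟨f, -, rfl⟩ := exists_rep hctx hN hd hb
  rw [← Nat.cast_add, ← mul_add, linH_rep hctx hN hd, linH_rep hctx hN hd, linH_rep hctx hN hd, hom_pow_add]

theorem linH_zero [NeZero M] : linH F θ M 0 = 1 := by
  obtain ⟨d, -, hd⟩ := exists_dd hctx hN
  have h1 := linH_rep hctx hN hd 0
  rw [mul_zero, Nat.cast_zero, hom_pow_zero] at h1
  exact h1

theorem torZ_nsmul [NeZero M] {a : ZMod M} (ha : TorZ (Nat.card F) M 1 a) (k : ℕ) :
    TorZ (Nat.card F) M 1 (k • a) := by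
  rw [torZ_one_iff hctx hN] at ha ⊢
  rw [smul_comm, ha, smul_zero]

theorem linH_nsmul [NeZero M] {a : ZMod M} (ha : TorZ (Nat.card F) M 1 a) (k : ℕ) :
    linH F θ M (k • a) = linH F θ M a ^ k := by
  induction k with
  | zero => rw [zero_smul, linH_zero hctx hN, hom_pow_zero]
  | succ k ih => rw [succ_nsmul, linH_add hctx hN (torZ_nsmul hctx hN ha k) ha, ih, hom_pow_succ]

theorem linH_injOn [NeZero M] {a b : ZMod M} (ha : TorZ (Nat.card F) M 1 a)
    (hb : TorZ (Nat.card F) M 1 b) (h : linH F θ M a = linH F θ M b) : a = b := by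
  obtain ⟨d, -, hd⟩ := exists_dd hctx hN
  obtain ⟨e, he, rfl⟩ := exists_rep hctx hN hd ha
  obtain ⟨f, hf, rfl⟩ := exists_rep hctx hN hd hb
  rw [linH_rep hctx hN hd, linH_rep hctx hN hd] at h
  have h1 : e = f := pow_injOn_Iio_orderOf (by rw [orderOf_thH hctx]; exact he)
    (by rw [orderOf_thH hctx]; exact hf) h
  rw [h1]

theorem linH_eq_one_iff [NeZero M] {a : ZMod M} (ha : TorZ (Nat.card F) M 1 a) :
    linH F θ M a = 1 ↔ a = 0 := by
  constructor
  · intro h
    refine linH_injOn hctx hN ha ?_ (h.trans (linH_zero hctx hN).symm)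
    rw [TorZ, mul_zero]
  · rintro rfl
    exact linH_zero hctx hN

theorem orderOf_linH [NeZero M] {a : ZMod M} (ha : TorZ (Nat.card F) M 1 a) :
    orderOf (linH F θ M a) = addOrderOf a := by
  refine Nat.dvd_antisymm ?_ ?_
  · apply orderOf_dvd_of_pow_eq_one
    rw [← linH_nsmul hctx hN ha, addOrderOf_nsmul_eq_zero, linH_zero hctx hN]
  · apply addOrderOf_dvd_of_nsmul_eq_zero
    rw [← linH_eq_one_iff hctx hN (torZ_nsmul hctx hN ha _), linH_nsmul hctx hN ha, pow_orderOf_eq_one]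

theorem exists_linH [NeZero M] (α : Fˣ →* ℂˣ) : ∃ a : ZMod M, TorZ (Nat.card F) M 1 a ∧ linH F θ M a = α := by
  obtain ⟨d, -, hd⟩ := exists_dd hctx hN
  obtain ⟨e, rfl⟩ := thH_gen hctx α
  exact ⟨_, torZ_rep hctx hN hd e, linH_rep hctx hN hd e⟩

end

section

variable {F : Type u} [Field F]

theorem dch_apply {n : ℕ} (α : Fˣ →* ℂˣ) (g : GL (Fin n) F) :
    dch n α g = α (Matrix.GeneralLinearGroup.det g) := rfl

theorem dch_injective {n : ℕ} (hn : 0 < n) : Function.Injective (fun α : Fˣ →* ℂˣ => dch (F := F) n α) := by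
  have : Nonempty (Fin n) := ⟨⟨0, hn⟩⟩
  intro α β h
  ext y
  obtain ⟨g, rfl⟩ := Matrix.GeneralLinearGroup.det_surjective (n := Fin n) y
  exact congrArg (fun z : ℂˣ => (z : ℂ)) (DFunLike.congr_fun h g)

theorem dch_mul {n : ℕ} (α β : Fˣ →* ℂˣ) : dch (F := F) n (α * β) = dch n α * dch n β := rfl

theorem dch_pow {n : ℕ} (α : Fˣ →* ℂˣ) (k : ℕ) : dch (F := F) n (α ^ k) = dch n α ^ k := by
  ext g
  rfl

theorem orderOf_dch {n : ℕ} (hn : 0 < n) (α : Fˣ →* ℂˣ) : orderOf (dch (F := F) n α) = orderOf α := by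
  refine Nat.dvd_antisymm ?_ ?_
  · apply orderOf_dvd_of_pow_eq_one
    rw [← dch_pow, pow_orderOf_eq_one]
    rfl
  · apply orderOf_dvd_of_pow_eq_one
    apply dch_injective hn
    change dch n (α ^ orderOf (dch n α)) = dch n 1
    rw [dch_pow, pow_orderOf_eq_one]
    rfl

/-- the kernel of the determinant -/
noncomputable abbrev SK (F : Type u) [Field F] (n : ℕ) : Subgroup (GL (Fin n) F) :=
  (Matrix.GeneralLinearGroup.det : GL (Fin n) F →* Fˣ).ker

theorem exists_dch {n : ℕ} (hn : 0 < n) (l : GL (Fin n) F →* ℂˣ) (hl : ∀ x ∈ SK F n, l x = 1) :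
    ∃ α : Fˣ →* ℂˣ, dch n α = l := by
  have : Nonempty (Fin n) := ⟨⟨0, hn⟩⟩
  have hs := Matrix.GeneralLinearGroup.det_surjective (n := Fin n) (R := F)
  refine ⟨(Matrix.GeneralLinearGroup.det.liftOfSurjective hs) ⟨l, fun x hx => ?_⟩, ?_⟩
  · rw [MonoidHom.mem_ker]
    exact hl x hx
  · exact Matrix.GeneralLinearGroup.det.liftOfRightInverse_comp _ _ ⟨l, _⟩

theorem isCyclic_quot_SK [Finite F] {n : ℕ} (hn : 0 < n) : IsCyclic (GL (Fin n) F ⧸ SK F n) := by
  have : Nonempty (Fin n) := ⟨⟨0, hn⟩⟩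
  have hs := Matrix.GeneralLinearGroup.det_surjective (n := Fin n) (R := F)
  exact isCyclic_of_surjective (QuotientGroup.quotientKerEquivOfSurjective _ hs).symm
    (QuotientGroup.quotientKerEquivOfSurjective _ hs).symm.surjective

theorem index_SK [Finite F] {n : ℕ} (hn : 0 < n) : (SK F n).index = Nat.card Fˣ := by
  have : Nonempty (Fin n) := ⟨⟨0, hn⟩⟩
  have hs := Matrix.GeneralLinearGroup.det_surjective (n := Fin n) (R := F)
  exact Nat.card_congr (QuotientGroup.quotientKerEquivOfSurjective _ hs).toEquiv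

end

end Cfsg.Agent.H666.Clif
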