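import Cfsg.Agent.H666.Clif.Cover

/-!
# The product of an irreducible Brauer character with a linear character
-/

set_option autoImplicit false

open Cfsg IsLocalRing Module
open scoped ComplexConjugate
open Cfsg.Agent.H657 Cfsg.Agent.H577.GLB
open Cfsg.Agent.H608.BlockRank Cfsg.Agent.Blocks.Basic Cfsg.Agent.Blocks.Local

namespace Cfsg.Agent.H666.Clif

universe u

attribute [local instance] Above.isAlgClosed

section

open Polynomial

theorem prod_scale {K : Type*} [Field K] {c : K} (hc : c ≠ 0) (t : K) (s : Multiset K) :
    c ^ s.card * (s.map (fun r => t / c - r)).prod = (s.map (fun r => t - c * r)).prod := by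
  induction s using Multiset.induction_on with
  | empty => simp
  | cons a s ih =>
    rw [Multiset.card_cons, Multiset.map_cons, Multiset.map_cons, Multiset.prod_cons, Multiset.prod_cons,
      ← ih, pow_succ]
    have : t - c * a = c * (t / c - a) := by
      rw [mul_sub, mul_div_cancel₀ t hc]
    rw [this]
    ring

/-- The roots of the characteristic polynomial of a multiple. -/
theorem roots_charpoly_smul {K : Type*} [Field K] [IsAlgClosed K] {W : Type*} [AddCommGroup W] [Module K W]
    [FiniteDimensional K W] (f : Module.End K W) {c : K} (hc : c ≠ 0) :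
    (LinearMap.charpoly (c • f)).roots = (LinearMap.charpoly f).roots.map (fun r => c * r) := by
  classical
  have hinf : Infinite K := IsAlgClosed.instInfinite
  have hsplit : LinearMap.charpoly f = ((LinearMap.charpoly f).roots.map (fun r => X - C r)).prod :=
    ((IsAlgClosed.splits _).eq_prod_roots_of_monic (LinearMap.charpoly_monic f))
  have hcard : (LinearMap.charpoly f).roots.card = finrank K W := by
    rw [← (IsAlgClosed.splits (LinearMap.charpoly f)).natDegree_eq_card_roots, LinearMap.charpoly_natDegree]
  have h1 : LinearMap.charpoly (c • f) =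
      (((LinearMap.charpoly f).roots.map (fun r => c * r)).map (fun r => X - C r)).prod := by
    apply Polynomial.funext
    intro t
    have h2 : eval t (LinearMap.charpoly (c • f)) =
        c ^ finrank K W * eval (t / c) (LinearMap.charpoly f) := by
      rw [LinearMap.eval_charpoly, LinearMap.eval_charpoly]
      have h3 : algebraMap K (Module.End K W) t - c • f =
          c • (algebraMap K (Module.End K W) (t / c) - f) := by
        rw [smul_sub, Algebra.smul_def c (algebraMap K (Module.End K W) (t / c)), ← map_mul,
          mul_div_cancel₀ t hc]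
      rw [h3, LinearMap.det_smul]
    rw [h2]
    have h4 : eval (t / c) (LinearMap.charpoly f) =
        ((LinearMap.charpoly f).roots.map (fun r => t / c - r)).prod := by
      conv_lhs => rw [hsplit]
      rw [eval_multiset_prod, Multiset.map_map]
      simp
    rw [h4, ← hcard, prod_scale hc, eval_multiset_prod, Multiset.map_map, Multiset.map_map]
    simp
  rw [h1, roots_multiset_prod_X_sub_C]

end

section

variable {V : ValuationSubring ℂ} {G : Type u} [Group G] {p : ℕ}

theorem IsRU.mul' {K : Type*} [CommMonoid K] (hp : p.Prime) {z w : K} (hz : IsRU p z) (hw : IsRU p w) :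
    IsRU p (z * w) := by
  obtain ⟨m, hm, hz⟩ := hz
  obtain ⟨n, hn, hw⟩ := hw
  refine ⟨m * n, fun h => (hp.dvd_mul.1 h).elim hm hn, ?_⟩
  rw [mul_pow, pow_mul, hz, one_pow, mul_comm m n, pow_mul, hw, one_pow, mul_one]

theorem bc_smul [Fact p.Prime] [CharP (ResidueField V) p] {W : Type*} [AddCommGroup W]
    [Module (ResidueField V) W] [FiniteDimensional (ResidueField V) W]
    (σ σ' : Representation (ResidueField V) G W) {g : G} (hg : ¬ p ∣ orderOf g) {z : V}
    (hz : IsRU p (z : ℂ)) (h : σ' g = residue V z • σ g) : bc p σ' g = z * bc p σ g := by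
  have hz0 : residue V z ≠ 0 := by
    obtain ⟨m, hm, hzm⟩ := hz
    have hm0 : m ≠ 0 := fun h0 => hm (h0 ▸ dvd_zero p)
    intro h0
    have h1 : (z : V) ^ m = 1 := Subtype.ext (by push_cast; exact hzm)
    have h2 := congrArg (residue V) h1
    rw [map_pow, h0, zero_pow hm0, map_one] at h2
    exact zero_ne_one h2
  unfold bc
  rw [h, roots_charpoly_smul _ hz0, Multiset.map_map, ← Multiset.sum_map_mul_left]
  congr 1
  refine Multiset.map_congr rfl fun r hr => ?_
  obtain ⟨w, hw, hw', hw''⟩ := lift_spec (V := V) (root_isRU σ hg hr)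
  rw [hw'', Function.comp_apply, ← hw', ← map_mul, lift_residue]
  · push_cast
    rfl
  · push_cast
    exact IsRU.mul' Fact.out hz hw

variable [Finite G]

omit [Finite G] in
theorem lin_mem [Finite G] (l : G →* ℂˣ) (g : G) : (l g : ℂ) ∈ V := by
  rw [← V.valuation_le_one_iff]
  have h0 : V.valuation (l g : ℂ) ^ Nat.card G = 1 := by
    rw [← map_pow, ← Units.val_pow_eq_pow_val, pow_lin, Units.val_one, map_one]
  exact (pow_le_one_iff Nat.card_pos.ne').1 h0.le

theorem lin_isRU (l : G →* ℂˣ) {g : G} (hg : ¬ p ∣ orderOf g) : IsRU p (l g : ℂ) := by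
  refine ⟨orderOf g, hg, ?_⟩
  rw [← Units.val_pow_eq_pow_val, ← map_pow, pow_orderOf_eq_one, map_one, Units.val_one]

/-- The residue of a linear character. -/
noncomputable def resLin (V : ValuationSubring ℂ) (l : G →* ℂˣ) : G →* ResidueField V where
  toFun g := residue V ⟨(l g : ℂ), lin_mem l g⟩
  map_one' := by
    rw [← map_one (residue V)]
    congr 1
    apply Subtype.ext
    change ((l 1 : ℂˣ) : ℂ) = 1
    rw [map_one, Units.val_one]
  map_mul' g h := by
    rw [← map_mul]
    congr 1
    apply Subtype.ext
    change ((l (g * h) : ℂˣ) : ℂ) = (l g : ℂ) * (l h : ℂ)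
    rw [map_mul, Units.val_mul]

theorem resLin_apply (l : G →* ℂˣ) (g : G) :
    resLin V l g = residue V ⟨(l g : ℂ), lin_mem l g⟩ := rfl

theorem resLin_ne_zero (l : G →* ℂˣ) (g : G) : resLin V l g ≠ 0 := by
  intro h
  have h1 : resLin V l (g * g⁻¹) = 1 := by rw [mul_inv_cancel, map_one]
  rw [map_mul, h, zero_mul] at h1
  exact zero_ne_one h1

/-- The twisted representation. -/
noncomputable def twRep (l : G →* ℂˣ) {W : Type*} [AddCommGroup W] [Module (ResidueField V) W]
    (σ : Representation (ResidueField V) G W) : Representation (ResidueField V) G W where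
  toFun g := resLin V l g • σ g
  map_one' := by rw [map_one, map_one, one_smul]
  map_mul' g h := by rw [map_mul, map_mul, smul_mul_smul_comm]

theorem twRep_apply (l : G →* ℂˣ) {W : Type*} [AddCommGroup W] [Module (ResidueField V) W]
    (σ : Representation (ResidueField V) G W) (g : G) : twRep l σ g = resLin V l g • σ g := rfl

theorem twRep_irr (l : G →* ℂˣ) {W : Type*} [AddCommGroup W] [Module (ResidueField V) W]
    (σ : Representation (ResidueField V) G W) (h : σ.IsIrreducible) : (twRep l σ).IsIrreducible := by
  -- the subrepresentations are the same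
  have key : ∀ (A : Submodule (ResidueField V) W) (g : G) (v : W), twRep l σ g v ∈ A ↔ σ g v ∈ A := by
    intro A g v
    rw [twRep_apply, LinearMap.smul_apply]
    exact A.smul_mem_iff (resLin_ne_zero l g)
  let e : Subrepresentation (twRep l σ) ≃o Subrepresentation σ :=
    { toFun := fun A => ⟨A.toSubmodule, fun g v hv => (key _ g v).1 (A.apply_mem_toSubmodule g hv)⟩
      invFun := fun A => ⟨A.toSubmodule, fun g v hv => (key _ g v).2 (A.apply_mem_toSubmodule g hv)⟩
      left_inv := fun _ => rfl
      right_inv := fun _ => rfl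
      map_rel_iff' := Iff.rfl }
  exact (OrderIso.isSimpleOrder_iff e).2 h

/-- **The product of an irreducible Brauer character with a linear character.** -/
theorem exists_tw {M : Ideal AlgInt} (hM : IsPModular p M) (hV : Above M V) (l : G →* ℂˣ) (i : IBr V G) :
    ∃ i' : IBr V G, ∀ g, phi p i' g = (l g : ℂ) * phi p i g := by
  have : Fact p.Prime := ⟨hM.1⟩
  have : CharP (ResidueField V) p := hV.charP hM
  refine ⟨⟨fun g => resLin V l g * i.1 g, i.deg, twRep l i.rep, twRep_irr l _ i.rep_irr, fun g => ?_⟩,
    fun g => ?_⟩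
  · rw [twRep_apply, map_smul, i.trace_rep, smul_eq_mul]
  · by_cases hg : IsPRegular p g
    · rw [phi_eq_bc _ (twRep l i.rep) (twRep_irr l _ i.rep_irr) (fun g => ?_) hg, phi_of i hg]
      · exact bc_smul i.rep (twRep l i.rep) hg (z := ⟨(l g : ℂ), lin_mem l g⟩) (lin_isRU l hg) rfl
      · rw [twRep_apply, map_smul, i.trace_rep, smul_eq_mul]
    · rw [phi_of_not _ hg, phi_of_not _ hg, mul_zero]

end

end Cfsg.Agent.H666.Clif
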