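import Cfsg.Agent.H666.Clif.P3
import Cfsg.Agent.OddOrderCharacters.AbelianTwist
import Cfsg.Agent.Blocks.OsimaUnion
import Cfsg.Agent.Blocks.Covering

/-!
# Blocks over a block of a normal subgroup with cyclic quotient

* `tl l χ`: the product of an irreducible character and a linear character;
* `exists_tl`: two irreducible characters over the same `ε` differ by a linear character of `G / N`;
* `cover`: if `B` covers `B'`, every member of `B'` lies under a member of `B`.
-/

set_option autoImplicit false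

open Cfsg IsLocalRing Module
open scoped ComplexConjugate
open Cfsg.Agent.H657 Cfsg.Agent.H577.GLB
open Cfsg.Agent.H608.BlockRank Cfsg.Agent.Blocks.Basic Cfsg.Agent.Blocks.Local

namespace Cfsg.Agent.H666.Clif

universe u

section

variable {G : Type u} [Group G] [Finite G] {p : ℕ} {M : Ideal AlgInt}

/-- The product with a linear character. -/
noncomputable def tl (l : G →* ℂˣ) (χ : IrrCharacter G) : IrrCharacter G :=
  ⟨fun g => (l g : ℂ) * (χ : G → ℂ) g, by
    have := Fintype.ofFinite G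
    exact OddOrderCharacters.AbelianTwist.isIrr_hom_mul l χ.2⟩

theorem tl_apply (l : G →* ℂˣ) (χ : IrrCharacter G) (g : G) :
    (tl l χ : G → ℂ) g = (l g : ℂ) * (χ : G → ℂ) g := rfl

theorem tl_tl (l m : G →* ℂˣ) (χ : IrrCharacter G) : tl l (tl m χ) = tl (l * m) χ := by
  apply Subtype.ext
  funext g
  rw [tl_apply, tl_apply, tl_apply, MonoidHom.mul_apply, Units.val_mul, mul_assoc]

theorem tl_one (χ : IrrCharacter G) : tl 1 χ = χ := by
  apply Subtype.ext
  funext g
  rw [tl_apply, MonoidHom.one_apply, Units.val_one, one_mul]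

theorem tl_inv_tl (l : G →* ℂˣ) (χ : IrrCharacter G) : tl l⁻¹ (tl l χ) = χ := by
  apply Subtype.ext
  funext g
  rw [tl_apply, tl_apply, MonoidHom.inv_apply, ← mul_assoc, ← Units.val_mul, inv_mul_cancel,
    Units.val_one, one_mul]

theorem tl_tl_inv (l : G →* ℂˣ) (χ : IrrCharacter G) : tl l (tl l⁻¹ χ) = χ := by
  apply Subtype.ext
  funext g
  rw [tl_apply, tl_apply, MonoidHom.inv_apply, ← mul_assoc, ← Units.val_mul, mul_inv_cancel,
    Units.val_one, one_mul]

theorem tl_injective (l : G →* ℂˣ) : Function.Injective (tl l) := by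
  intro χ ψ h
  rw [← tl_inv_tl l χ, h, tl_inv_tl]

theorem pow_lin (l : G →* ℂˣ) (g : G) : (l g) ^ Nat.card G = 1 := by
  rw [← map_pow, pow_card_eq_one', map_one]

theorem isIntegral_lin (l : G →* ℂˣ) (g : G) : IsIntegral ℤ (l g : ℂ) := by
  refine ⟨Polynomial.X ^ Nat.card G - 1, Polynomial.monic_X_pow_sub_C 1 Nat.card_pos.ne', ?_⟩
  have h := congrArg (Units.val) (pow_lin l g)
  rw [Units.val_pow_eq_pow_val, Units.val_one] at h
  simp [h]

theorem centralChar_tl (l : G →* ℂˣ) (χ : IrrCharacter G) (g : G) :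
    centralChar (tl l χ : G → ℂ) g = (l g : ℂ) * centralChar (χ : G → ℂ) g := by
  unfold centralChar
  rw [tl_apply, tl_apply, map_one, Units.val_one, one_mul]
  ring

theorem sameBlock_tl (hMp : M.IsPrime) (l : G →* ℂˣ) {χ ψ : IrrCharacter G}
    (h : SameBlock M (χ : G → ℂ) (ψ : G → ℂ)) :
    SameBlock M (tl l χ : G → ℂ) (tl l ψ : G → ℂ) := by
  intro g
  rw [centralChar_tl, centralChar_tl, ← mul_sub]
  exact Blocks.Covering.memLocalIdeal_mul_left hMp (memLocalRing_of_isIntegral (isIntegral_lin l g)) (h g)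

theorem sameBlock_tl_iff (hMp : M.IsPrime) (l : G →* ℂˣ) {χ ψ : IrrCharacter G} :
    SameBlock M (tl l χ : G → ℂ) (tl l ψ : G → ℂ) ↔ SameBlock M (χ : G → ℂ) (ψ : G → ℂ) := by
  refine ⟨fun h => ?_, sameBlock_tl hMp l⟩
  have := sameBlock_tl hMp l⁻¹ h
  rwa [tl_inv_tl, tl_inv_tl] at this

theorem image_tl_blockOf (hMp : M.IsPrime) (l : G →* ℂˣ) (χ : IrrCharacter G) :
    tl l '' blockOf M (χ : G → ℂ) = blockOf M (tl l χ : G → ℂ) := by
  ext ψ
  constructor
  · rintro ⟨η, hη, rfl⟩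
    exact sameBlock_tl hMp l hη
  · intro h
    refine ⟨tl l⁻¹ ψ, ?_, tl_tl_inv l ψ⟩
    have h1 : SameBlock M (tl l χ : G → ℂ) (ψ : G → ℂ) := h
    rw [← tl_tl_inv l ψ, sameBlock_tl_iff hMp] at h1
    exact h1

theorem isPBlock_tl (hMp : M.IsPrime) (l : G →* ℂˣ) {B : Set (IrrCharacter G)} (hB : IsPBlock M B) :
    IsPBlock M (tl l '' B) := by
  obtain ⟨χ, rfl⟩ := hB
  exact ⟨tl l χ, image_tl_blockOf hMp l χ⟩

theorem isUnion_of_isPBlock (hMp : M.IsPrime) {B : Set (IrrCharacter G)} (hB : IsPBlock M B) :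
    IsUnion M B := fun _ _ h hχ => Blocks.Covering.mem_of_sameBlock hMp hB hχ h

theorem ov_tl (N : Subgroup G) {l : G →* ℂˣ} (hl : ∀ x ∈ N, l x = 1) {χ : IrrCharacter G}
    {ε : IrrCharacter N} : Ov N (tl l χ) ε ↔ Ov N χ ε := by
  unfold Ov
  have : ∀ x : N, (tl l χ : G → ℂ) x * conj ((ε : N → ℂ) x) = (χ : G → ℂ) x * conj ((ε : N → ℂ) x) := by
    intro x
    rw [tl_apply, hl x x.2, Units.val_one, one_mul]
  simp only [this]

/-- Restrictions with a common constituent are not orthogonal. -/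
theorem inner_ne_zero [Fintype G] (N : Subgroup G) [Fintype N] {χ ψ : IrrCharacter G} {ε : IrrCharacter N}
    (h1 : Ov N χ ε) (h2 : Ov N ψ ε) :
    classInner (fun n : N => (χ : G → ℂ) n) (fun n : N => (ψ : G → ℂ) n) ≠ 0 := by
  classical
  have := Characters.Core.finite_irr (G := N)
  have := Fintype.ofFinite (IrrCharacter N)
  obtain ⟨a, ha, ha'⟩ := CharDeep.CliffordCorr.exists_nat_coeffs
    (Characters.Clifford.isCharacter_restrict N (Characters.Core.isIrr_isCharacter χ.2))
  obtain ⟨b, hb, hb'⟩ := CharDeep.CliffordCorr.exists_nat_coeffs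
    (Characters.Clifford.isCharacter_restrict N (Characters.Core.isIrr_isCharacter ψ.2))
  rw [ha, hb, Characters.Core.classInner_sum_smul_sum_smul]
  rw [ov_iff, ha' ε] at h1
  rw [ov_iff, hb' ε] at h2
  have h3 : ∑ η : IrrCharacter N, ((a η : ℂ) * conj (b η : ℂ)) = ((∑ η : IrrCharacter N, a η * b η : ℕ) : ℂ) := by
    push_cast
    refine Finset.sum_congr rfl fun η _ => ?_
    rw [Complex.conj_natCast]
  rw [h3]
  norm_cast at h1 h2 ⊢
  intro h0
  have h4 := Finset.sum_eq_zero_iff.1 h0 ε (Finset.mem_univ _)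
  exact (mul_ne_zero h1 h2) h4

/-- **Gallagher** for cyclic quotients: characters over the same `ε` differ by a linear character. -/
theorem exists_tl (N : Subgroup G) [N.Normal] (hc : IsCyclic (G ⧸ N)) {χ ψ : IrrCharacter G}
    {ε : IrrCharacter N} (h1 : Ov N χ ε) (h2 : Ov N ψ ε) :
    ∃ l : G →* ℂˣ, (∀ x ∈ N, l x = 1) ∧ ψ = tl l χ := by
  classical
  have := Fintype.ofFinite G
  have := Fintype.ofFinite N
  obtain ⟨l, hl1, hl2⟩ := exists_lin N hc (le_refl N)
  have hlN : ∀ x ∈ N, l x = 1 := fun x hx => by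
    rw [← MonoidHom.mem_ker, hl1]
    exact hx
  by_contra hcon
  have h3 : ∀ k : ℕ, classInner (ψ : G → ℂ) (tl (l ^ k) χ : G → ℂ) = 0 := by
    intro k
    refine Characters.Core.classInner_irr_ne ψ.2 (tl (l ^ k) χ).2 fun h => hcon ⟨l ^ k, fun x hx => ?_,
      Subtype.ext h⟩
    rw [MonoidHom.pow_apply, hlN x hx, one_pow]
  set n := orderOf l with hn
  have hn0 : n ≠ 0 := by rw [hl2]; exact Subgroup.index_ne_zero_of_finite
  have h4 : ∑ k ∈ Finset.range n, classInner (ψ : G → ℂ) (tl (l ^ k) χ : G → ℂ) = 0 :=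
    Finset.sum_eq_zero fun k _ => h3 k
  have h5 : ∀ g : G, ∑ k ∈ Finset.range n, (ψ : G → ℂ) g * conj ((tl (l ^ k) χ : G → ℂ) g) =
      if g ∈ N then (n : ℂ) * ((ψ : G → ℂ) g * conj ((χ : G → ℂ) g)) else 0 := by
    intro g
    have h6 : ∀ k, (ψ : G → ℂ) g * conj ((tl (l ^ k) χ : G → ℂ) g) =
        (conj (l g : ℂ)) ^ k * ((ψ : G → ℂ) g * conj ((χ : G → ℂ) g)) := by
      intro k
      rw [tl_apply, MonoidHom.pow_apply, Units.val_pow_eq_pow_val, map_mul, map_pow]
      ring
    simp only [h6]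
    rw [← Finset.sum_mul]
    split_ifs with hg
    · rw [hlN g hg, Units.val_one, map_one]
      simp
    · have h7 : (conj (l g : ℂ)) ≠ 1 := by
        intro h
        apply hg
        rw [← hl1, MonoidHom.mem_ker]
        apply Units.ext
        rw [Units.val_one]
        have := congrArg conj h
        rwa [Complex.conj_conj, map_one] at this
      have h8 : (conj (l g : ℂ)) ^ n = 1 := by
        rw [← map_pow, ← Units.val_pow_eq_pow_val, ← MonoidHom.pow_apply, hn, pow_orderOf_eq_one]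
        simp
      have h9 := mul_geom_sum (conj (l g : ℂ)) n
      rw [h8, sub_self] at h9
      rw [(mul_eq_zero.1 h9).resolve_left (sub_ne_zero.2 h7), zero_mul]
  have h6 : ∑ k ∈ Finset.range n, classInner (ψ : G → ℂ) (tl (l ^ k) χ : G → ℂ) =
      (Nat.card G : ℂ)⁻¹ * ((n : ℂ) * ∑ x : N, (ψ : G → ℂ) x * conj ((χ : G → ℂ) x)) := by
    unfold classInner
    rw [← Finset.mul_sum, Finset.sum_comm, Finset.sum_congr rfl fun g _ => h5 g, ← Finset.sum_filter,
      ← Finset.mul_sum]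
    congr 2
    exact Finset.sum_subtype _ (by simp) _
  rw [h6] at h4
  have h7 := inner_ne_zero N h2 h1
  apply h7
  unfold classInner
  have hG : (Nat.card G : ℂ)⁻¹ ≠ 0 := inv_ne_zero (by exact_mod_cast Nat.card_pos.ne')
  have h8 := (mul_eq_zero.1 h4).resolve_left hG
  have h9 := (mul_eq_zero.1 h8).resolve_left (by exact_mod_cast hn0)
  rw [h9, mul_zero]

end

end Cfsg.Agent.H666.Clif
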