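import Cfsg.Agent.H666.Clif.Star

/-!
# The number of constituents in a chain `S ≤ N ≤ G`
-/

set_option autoImplicit false

open Cfsg IsLocalRing Module
open scoped ComplexConjugate
open Cfsg.Agent.H657 Cfsg.Agent.H577.GLB
open Cfsg.Agent.H608.BlockRank Cfsg.Agent.Blocks.Basic Cfsg.Agent.Blocks.Local

namespace Cfsg.Agent.H666.Clif

universe u

section

variable {G : Type u} [Group G] [Finite G]

theorem isCyclic_quot {S N : Subgroup G} [S.Normal] [N.Normal] (hSN : S ≤ N) (hcyc : IsCyclic (G ⧸ S)) :
    IsCyclic (G ⧸ N) := by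
  let F : G ⧸ S →* G ⧸ N := QuotientGroup.map S N (MonoidHom.id G) (by
    intro x hx
    exact hSN hx)
  refine isCyclic_of_surjective F ?_
  intro y
  obtain ⟨g, rfl⟩ := QuotientGroup.mk_surjective y
  exact ⟨QuotientGroup.mk g, rfl⟩

theorem isCyclic_sub {S N : Subgroup G} [hS : S.Normal] [N.Normal] (hcyc : IsCyclic (G ⧸ S)) :
    IsCyclic (N ⧸ S.subgroupOf N) := by
  let F : N ⧸ S.subgroupOf N →* G ⧸ S := QuotientGroup.map (S.subgroupOf N) S N.subtype (by
    intro x hx
    exact hx)
  refine isCyclic_of_injective F ?_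
  rw [injective_iff_map_eq_one]
  intro y hy
  obtain ⟨n, rfl⟩ := QuotientGroup.mk_surjective y
  have h1 : (QuotientGroup.mk (n : G) : G ⧸ S) = 1 := hy
  rw [QuotientGroup.eq_one_iff] at h1
  rw [QuotientGroup.eq_one_iff]
  exact h1

/-- The index of the kernel of a linear character is its order. -/
theorem index_ker (l : G →* ℂˣ) : l.ker.index = orderOf l := by
  classical
  have hfin : Finite l.range := by
    have : Finite (Set.range l) := Set.finite_range l
    exact this
  have hcyc : IsCyclic l.range := inferInstance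
  rw [Subgroup.index_ker]
  refine Nat.dvd_antisymm ?_ ?_
  · obtain ⟨c, hc⟩ := IsCyclic.exists_generator (α := l.range)
    obtain ⟨⟨_, g, rfl⟩, hg⟩ : ∃ x : l.range, x = c := ⟨c, rfl⟩
    have h1 : orderOf c = Nat.card l.range := orderOf_eq_card_of_forall_mem_zpowers hc
    rw [← h1]
    refine orderOf_dvd_of_pow_eq_one ?_
    rw [← hg]
    apply Subtype.ext
    rw [Subgroup.coe_pow, Subgroup.coe_one]
    change (l g) ^ orderOf l = 1
    rw [← MonoidHom.pow_apply, pow_orderOf_eq_one]
    rfl
  · refine orderOf_dvd_of_pow_eq_one ?_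
    ext g
    have h1 : (⟨l g, g, rfl⟩ : l.range) ^ Nat.card l.range = 1 := pow_card_eq_one'
    have h2 := congrArg (fun x : l.range => ((x : ℂˣ) : ℂ)) h1
    rw [MonoidHom.pow_apply]
    exact h2

end

section

variable {V : ValuationSubring ℂ} {p : ℕ} {M : Ideal AlgInt} {G : Type u} [Group G] [Finite G]

theorem card_dvd_index (hM : IsPModular p M) (hV : Above M V) (N : Subgroup G) [N.Normal]
    (hc : IsCyclic (G ⧸ N)) {φ : IBr V G} {Q : Finset (IBr V N)} (hQ : IsRes p N φ Q) :
    Q.card ∣ N.index := by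
  obtain ⟨O', ⟨j0, hj0⟩, h1, h2, h3⟩ := H112.Clif.clifford_cyclic (V := V) hM hV N hc φ
  obtain rfl := isRes_unique hM hV N hQ h1
  rw [card_eq_index hM hV N hc h2 h3 hj0]
  exact Subgroup.index_dvd_of_le (le_stab N (phi_isClassFunction p j0))

/-- **The number of constituents in a chain.** -/
theorem card_tower (hM : IsPModular p M) (hV : Above M V)
    (S N : Subgroup G) [S.Normal] [N.Normal] (hSN : S ≤ N) (hcyc : IsCyclic (G ⧸ S))
    {φ : IBr V G} {O : Finset (IBr V S)} (hO : IsRes p S φ O) {Q : Finset (IBr V N)} (hQ : IsRes p N φ Q)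
    {ψ : IBr V N} (hψ : ψ ∈ Q) {P : Finset (IBr V (S.subgroupOf N))} (hP : IsRes p (S.subgroupOf N) ψ P) :
    O.card = Q.card * P.card := by
  classical
  have : Fact p.Prime := ⟨hM.1⟩
  have : CharP (ResidueField V) p := hV.charP hM
  have := Fintype.ofFinite G
  have hMp := isPrime_of_isPModular hM
  set S' : Subgroup N := S.subgroupOf N with hS'
  have hS'n : S'.Normal := Subgroup.normal_subgroupOf
  have hGN : IsCyclic (G ⧸ N) := isCyclic_quot hSN hcyc
  have hNS : IsCyclic (N ⧸ S') := isCyclic_sub hcyc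
  let e : S' ≃* S := Subgroup.subgroupOfEquivOfLe hSN
  have he : ∀ x : S', ((e x : S) : G) = ((x : N) : G) := fun x => rfl
  choose R hRne hR hR1 hR2 using H112.Clif.clifford_cyclic (V := V) hM hV S' hNS
  have hQcl : (∀ j ∈ Q, ∀ j' ∈ Q, ∃ g : G, phi p j' = cj N g (phi p j)) := by
    obtain ⟨O', -, h1, h2, h3⟩ := H112.Clif.clifford_cyclic (V := V) hM hV N hGN φ
    rw [isRes_unique hM hV N hQ h1]
    exact h3
  choose T hT using fun j : IBr V S => exists_comp (p := p) e j
  have hinjS : Function.Injective (fun j : IBr V S => phi p j) :=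
    (linearIndependent_phi (V := V) (G := S) (p := p)).injective
  have hinjS' : Function.Injective (fun j : IBr V S' => phi p j) :=
    (linearIndependent_phi (V := V) (G := S') (p := p)).injective
  have hTinj : Function.Injective T := by
    intro j j' h
    apply hinjS
    funext x
    have h1 := hT j (e.symm x)
    have h2 := hT j' (e.symm x)
    rw [h] at h1
    rw [h1, e.apply_symm_apply] at h2
    exact h2
  have hadd : O.card = ∑ ψ' ∈ Q, (R ψ').card := by
    have := Fintype.ofFinite (IBr V S')
    have h1 : ∑ j : IBr V S', ((if j ∈ O.image T then (1 : ℂ) else 0) -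
        ((Q.filter (fun ψ' => j ∈ R ψ')).card : ℂ)) • phi p j = 0 := by
      simp only [sub_smul]
      rw [Finset.sum_sub_distrib, sub_eq_zero]
      funext x
      have h2 : (∑ j : IBr V S', (if j ∈ O.image T then (1 : ℂ) else 0) • phi p j) x =
          phi p φ ((x : N) : G) := by
        rw [Finset.sum_apply]
        simp only [Pi.smul_apply, smul_eq_mul, ite_mul, one_mul, zero_mul]
        rw [Finset.sum_ite_mem, Finset.univ_inter, Finset.sum_image (fun a _ b _ h => hTinj h)]
        have h3 := hO (e x)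
        rw [he] at h3
        rw [h3]
        exact Finset.sum_congr rfl fun j _ => hT j x
      have h3 : (∑ j : IBr V S', ((Q.filter (fun ψ' => j ∈ R ψ')).card : ℂ) • phi p j) x =
          phi p φ ((x : N) : G) := by
        rw [hQ (x : N), Finset.sum_apply]
        have h4 : ∀ ψ' ∈ Q, phi p ψ' (x : N) = ∑ j : IBr V S', if j ∈ R ψ' then phi p j x else 0 := by
          intro ψ' _
          rw [hR ψ' x, Finset.sum_ite_mem, Finset.univ_inter]
        rw [Finset.sum_congr rfl h4, Finset.sum_comm]
        refine Finset.sum_congr rfl fun j _ => ?_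
        rw [Pi.smul_apply, smul_eq_mul, ← Finset.sum_filter, Finset.sum_const, nsmul_eq_mul]
      rw [h2, h3]
    have h5 := Fintype.linearIndependent_iff.1 (linearIndependent_phi (V := V) (G := S') (p := p)) _ h1
    have h6 : ∀ j : IBr V S', (if j ∈ O.image T then 1 else 0) =
        (Q.filter (fun ψ' => j ∈ R ψ')).card := by
      intro j
      have h7 := sub_eq_zero.1 (h5 j)
      split_ifs at h7 ⊢ <;> exact_mod_cast h7
    have h8 : O.card = ∑ j : IBr V S', if j ∈ O.image T then 1 else 0 := by
      rw [Finset.sum_ite_mem, Finset.univ_inter, Finset.sum_const, smul_eq_mul, mul_one,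
        Finset.card_image_of_injective _ hTinj]
    rw [h8, Finset.sum_congr rfl fun j _ => h6 j]
    have h9 : ∀ ψ' ∈ Q, (R ψ').card = ∑ j : IBr V S', if j ∈ R ψ' then 1 else 0 := by
      intro ψ' _
      rw [Finset.sum_ite_mem, Finset.univ_inter, Finset.sum_const, smul_eq_mul, mul_one]
    rw [Finset.sum_congr rfl h9, Finset.sum_comm]
    refine Finset.sum_congr rfl fun j _ => ?_
    rw [← Finset.sum_filter, Finset.sum_const, smul_eq_mul, mul_one]
  have hconj : ∀ (ψ ψ' : IBr V N) (g : G), phi p ψ' = cj N g (phi p ψ) → (R ψ').card = (R ψ).card := by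
    intro ψ ψ' g h
    let τ : S' ≃* S' := (e.trans (MulAut.conjNormal (H := S) g)).trans e.symm
    have hτ : ∀ x : S', (((τ x : S') : N) : G) = g * ((x : N) : G) * g⁻¹ := fun x => rfl
    choose U hU using fun j : IBr V S' => exists_comp (p := p) τ j
    have hUinj : Function.Injective U := by
      intro j j' h
      apply hinjS'
      funext x
      have h1 := hU j (τ.symm x)
      have h2 := hU j' (τ.symm x)
      rw [h] at h1
      rw [h1, τ.apply_symm_apply] at h2
      exact h2
    have h1 : IsRes p S' ψ' ((R ψ).image U) := by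
      intro x
      rw [Finset.sum_image (fun a _ b _ h => hUinj h), h]
      have h2 : cj N g (phi p ψ) (x : N) = phi p ψ ((τ x : S') : N) := by
        unfold cj
        congr 1
      rw [h2, hR ψ (τ x)]
      exact Finset.sum_congr rfl fun j _ => (hU j x).symm
    rw [isRes_unique hM hV S' (hR ψ') h1, Finset.card_image_of_injective _ hUinj]
  rw [hadd, isRes_unique hM hV S' hP (hR ψ), ← smul_eq_mul, ← Finset.sum_const]
  refine Finset.sum_congr rfl fun ψ' hψ' => ?_
  obtain ⟨g, hg⟩ := hQcl _ hψ _ hψ'
  exact hconj _ _ g hg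

end

end Cfsg.Agent.H666.Clif
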