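import Cfsg.Agent.H666.Clif.Tower

/-!
# The descent inequality

`S` normal in `G`, `G / S` cyclic, `B` a block of `G` covering the block `B'` of `S`.

* `pKer S p`: the intersection of the kernels of the linear characters of `G / S` of `p`-power order;
* `APrime S p`: the linear characters of `G / S` of order prime to `p`;
* `card_split`: the number of constituents on `S` is the number of linear characters of order prime to `p` fixing `φ`
  times the number of constituents on `pKer S p`;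
* `desc_le`, `desc_le_fix`: the descent inequality.
-/

set_option autoImplicit false

open Cfsg IsLocalRing Module
open scoped ComplexConjugate
open Cfsg.Agent.H657 Cfsg.Agent.H577.GLB
open Cfsg.Agent.H608.BlockRank Cfsg.Agent.Blocks.Basic Cfsg.Agent.Blocks.Local

namespace Cfsg.Agent.H666.Clif

universe u

section

variable {G : Type u} [Group G] [Finite G]

/-- the intersection of the kernels of the linear characters of `G / S` of `p`-power order -/
def pKer (S : Subgroup G) (p : ℕ) : Subgroup G where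
  carrier := {g | ∀ l : G →* ℂˣ, (∀ x ∈ S, l x = 1) → (∃ j : ℕ, orderOf l = p ^ j) → l g = 1}
  one_mem' := fun l _ _ => map_one l
  mul_mem' := fun ha hb l h1 h2 => by rw [map_mul, ha l h1 h2, hb l h1 h2, one_mul]
  inv_mem' := fun ha l h1 h2 => by rw [map_inv, ha l h1 h2, inv_one]

/-- the linear characters of `G / S` of order prime to `p` -/
abbrev APrime (S : Subgroup G) (p : ℕ) := {l : G →* ℂˣ // (∀ x ∈ S, l x = 1) ∧ (orderOf l).Coprime p}

theorem mem_pKer {S : Subgroup G} {p : ℕ} {g : G} : g ∈ pKer S p ↔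
    ∀ l : G →* ℂˣ, (∀ x ∈ S, l x = 1) → (∃ j : ℕ, orderOf l = p ^ j) → l g = 1 := Iff.rfl

theorem le_pKer (S : Subgroup G) (p : ℕ) : S ≤ pKer S p := fun x hx l h1 _ => h1 x hx

instance pKer_normal (S : Subgroup G) (p : ℕ) : (pKer S p).Normal := by
  refine ⟨fun x hx g l h1 h2 => ?_⟩
  rw [map_mul, map_mul, hx l h1 h2, mul_one, map_inv, mul_inv_cancel]

theorem exists_split (S : Subgroup G) [S.Normal] (hcyc : IsCyclic (G ⧸ S)) {p : ℕ} (hp : p.Prime) :
    ∃ (lp lq : G →* ℂˣ) (a m : ℕ), S.index = p ^ a * m ∧ m.Coprime p ∧ orderOf lp = p ^ a ∧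
      orderOf lq = m ∧ pKer S p = lp.ker ∧ S ≤ lq.ker ∧
      ∀ l : G →* ℂˣ, ((∀ x ∈ S, l x = 1) ∧ (orderOf l).Coprime p) ↔ ∀ x ∈ lq.ker, l x = 1 := by
  obtain ⟨l0, hl0, ho⟩ := exists_lin S hcyc (le_refl S)
  have hne : S.index ≠ 0 := Subgroup.index_ne_zero_of_finite
  obtain ⟨a, m, hm, ham⟩ := Nat.exists_eq_pow_mul_and_not_dvd hne p hp.ne_one
  have hmc : m.Coprime p := ((Nat.Prime.coprime_iff_not_dvd hp).2 hm).symm
  have hm0 : m ≠ 0 := fun h => hne (by rw [ham, h, mul_zero])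
  have hpa0 : p ^ a ≠ 0 := pow_ne_zero _ hp.ne_zero
  have hl0S : ∀ x ∈ S, l0 x = 1 := fun x hx => by
    rw [← MonoidHom.mem_ker, hl0]
    exact hx
  have hlp : orderOf (l0 ^ m) = p ^ a := by
    rw [orderOf_pow_of_dvd hm0 (by rw [ho, ham]; exact Dvd.intro_left _ rfl), ho, ham,
      Nat.mul_div_cancel _ (Nat.pos_of_ne_zero hm0)]
  have hlq : orderOf (l0 ^ p ^ a) = m := by
    rw [orderOf_pow_of_dvd hpa0 (by rw [ho, ham]; exact Dvd.intro _ rfl), ho, ham,
      Nat.mul_div_cancel_left _ (Nat.pos_of_ne_zero hpa0)]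
  have hquot : ∀ (l : G →* ℂˣ), (∀ x ∈ S, l x = 1) → ∀ g : G, l0 g = 1 → l g = 1 := by
    intro l hl g hg
    apply hl
    rw [← hl0, MonoidHom.mem_ker]
    exact hg
  -- elements of the kernel of a power
  refine ⟨l0 ^ m, l0 ^ p ^ a, a, m, ham, hmc, hlp, hlq, ?_, ?_, ?_⟩
  · apply le_antisymm
    · intro g hg
      rw [MonoidHom.mem_ker]
      refine hg _ (fun x hx => ?_) ⟨a, hlp⟩
      rw [MonoidHom.pow_apply, hl0S x hx, one_pow]
    · intro g hg l hl hj
      obtain ⟨j, hj⟩ := hj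
      rw [MonoidHom.mem_ker, MonoidHom.pow_apply] at hg
      -- `g ^ m ∈ S`
      have h1 : l (g ^ m) = 1 := hquot l hl _ (by rw [map_pow]; exact hg)
      rw [map_pow] at h1
      have h2 : (l g) ^ p ^ j = 1 := by
        rw [← MonoidHom.pow_apply, ← hj, pow_orderOf_eq_one]
        rfl
      have h3 : orderOf (l g) ∣ m := orderOf_dvd_of_pow_eq_one h1
      have h4 : orderOf (l g) ∣ p ^ j := orderOf_dvd_of_pow_eq_one h2
      exact orderOf_eq_one_iff.1 (Nat.eq_one_of_dvd_coprimes (Nat.Coprime.pow_right j hmc) h3 h4)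
  · intro x hx
    rw [MonoidHom.mem_ker, MonoidHom.pow_apply, hl0S x hx, one_pow]
  · intro l
    constructor
    · rintro ⟨hl, hc⟩ x hx
      rw [MonoidHom.mem_ker, MonoidHom.pow_apply] at hx
      have h1 : l (x ^ p ^ a) = 1 := hquot l hl _ (by rw [map_pow]; exact hx)
      rw [map_pow] at h1
      have h2 : (l x) ^ orderOf l = 1 := by
        rw [← MonoidHom.pow_apply, pow_orderOf_eq_one]
        rfl
      exact orderOf_eq_one_iff.1 (Nat.eq_one_of_dvd_coprimes (Nat.Coprime.pow_left a hc.symm)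
        (orderOf_dvd_of_pow_eq_one h1) (orderOf_dvd_of_pow_eq_one h2))
    · intro h
      refine ⟨fun x hx => h x ?_, ?_⟩
      · rw [MonoidHom.mem_ker, MonoidHom.pow_apply, hl0S x hx, one_pow]
      · refine Nat.Coprime.coprime_dvd_left (orderOf_dvd_of_pow_eq_one (n := m) ?_) hmc
        ext g
        rw [MonoidHom.pow_apply, ← map_pow]
        rw [h]
        · rfl
        · rw [MonoidHom.mem_ker, map_pow, ← MonoidHom.pow_apply, ← hlq, pow_orderOf_eq_one]
          rfl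

theorem finite_APrime (S : Subgroup G) (p : ℕ) (hS : S.Normal) (hcyc : IsCyclic (G ⧸ S)) :
    Finite (APrime S p) := by
  have : Finite (G →* ℂˣ) := by
    have h1 : ∀ (l : G →* ℂˣ) (g : G), (l g : ℂ) ∈ Polynomial.nthRootsFinset (Nat.card G) (1 : ℂ) := by
      intro l g
      rw [Polynomial.mem_nthRootsFinset Nat.card_pos, ← Units.val_pow_eq_pow_val, pow_lin, Units.val_one]
    let f : (G →* ℂˣ) → (G → Polynomial.nthRootsFinset (Nat.card G) (1 : ℂ)) := fun l g => ⟨_, h1 l g⟩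
    refine Finite.of_injective f ?_
    intro l l' h
    ext g
    exact congrArg Subtype.val (congrFun h g)
  infer_instance

end

section

variable {V : ValuationSubring ℂ} {p : ℕ} {M : Ideal AlgInt} {G : Type u} [Group G] [Finite G]

/-- The number of constituents on `S`. -/
theorem card_split (hM : IsPModular p M) (hV : Above M V) (S : Subgroup G) [S.Normal]
    (hcyc : IsCyclic (G ⧸ S)) {φ : IBr V G} {O : Finset (IBr V S)} (hO : IsRes p S φ O)
    {Q : Finset (IBr V (pKer S p))} (hQ : IsRes p (pKer S p) φ Q) :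
    O.card = Nat.card {l : G →* ℂˣ // ((∀ x ∈ S, l x = 1) ∧ (orderOf l).Coprime p) ∧
      (fun g => (l g : ℂ) * phi p φ g) = phi p φ} * Q.card := by
  classical
  obtain ⟨lp, lq, a, m, ham, hmc, hlp, hlq, hK, hSq, hchar⟩ := exists_split S hcyc hM.1
  have hSK : S ≤ (pKer S p) := le_pKer S p
  set T := lq.ker with hT
  have hKi : (pKer S p).index = p ^ a := by rw [hK, index_ker, hlp]
  have hTi : T.index = m := by rw [hT, index_ker, hlq]
  have hGK : IsCyclic (G ⧸ (pKer S p)) := isCyclic_quot hSK hcyc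
  have hGT : IsCyclic (G ⧸ T) := isCyclic_quot hSq hcyc
  have hpa : 0 < p ^ a := Nat.pos_of_ne_zero (pow_ne_zero _ hM.1.ne_zero)
  have hm0 : 0 < m := by
    rcases Nat.eq_zero_or_pos m with h | h
    · exfalso
      rw [h, mul_zero] at ham
      exact Subgroup.index_ne_zero_of_finite ham
    · exact h
  have hSK' : (S.subgroupOf (pKer S p)).index = m := by
    have h1 := Subgroup.relIndex_mul_index hSK
    rw [hKi, ham, mul_comm] at h1
    exact Nat.eq_of_mul_eq_mul_left hpa h1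
  have hST' : (S.subgroupOf T).index = p ^ a := by
    have h1 := Subgroup.relIndex_mul_index hSq
    rw [hTi, ham] at h1
    exact Nat.eq_of_mul_eq_mul_right hm0 h1
  -- constituents on `T`
  obtain ⟨Q₁, ⟨ψ₁, hψ₁⟩, hQ₁, -, -⟩ := H112.Clif.clifford_cyclic (V := V) hM hV T hGT φ
  obtain ⟨Q', ⟨ψ, hψ⟩, hQ', -, -⟩ := H112.Clif.clifford_cyclic (V := V) hM hV (pKer S p) hGK φ
  rw [isRes_unique hM hV (pKer S p) hQ' hQ] at hψ
  have : (S.subgroupOf T).Normal := Subgroup.normal_subgroupOf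
  have : (S.subgroupOf (pKer S p)).Normal := Subgroup.normal_subgroupOf
  obtain ⟨P₁, -, hP₁, -, -⟩ := H112.Clif.clifford_cyclic (V := V) hM hV (S.subgroupOf T)
    (isCyclic_sub hcyc) ψ₁
  obtain ⟨P, -, hP, -, -⟩ := H112.Clif.clifford_cyclic (V := V) hM hV (S.subgroupOf (pKer S p))
    (isCyclic_sub hcyc) ψ
  have e1 := card_tower hM hV S T hSq hcyc hO hQ₁ hψ₁ hP₁
  have e2 := card_tower hM hV S (pKer S p) hSK hcyc hO hQ hψ hP
  have d1 : Q₁.card ∣ m := hTi ▸ card_dvd_index hM hV T hGT hQ₁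
  have d2 : P₁.card ∣ p ^ a := hST' ▸ card_dvd_index hM hV (S.subgroupOf T) (isCyclic_sub hcyc) hP₁
  have d3 : Q.card ∣ p ^ a := hKi ▸ card_dvd_index hM hV (pKer S p) hGK hQ
  have d4 : P.card ∣ m := hSK' ▸ card_dvd_index hM hV (S.subgroupOf (pKer S p)) (isCyclic_sub hcyc) hP
  have hcop : m.Coprime (p ^ a) := Nat.Coprime.pow_right a hmc
  have hPQ : P₁.card = Q.card := by
    have h1 : Q₁.card * P₁.card = Q.card * P.card := e1.symm.trans e2
    refine Nat.dvd_antisymm ?_ ?_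
    · have h2 : P₁.card ∣ Q.card * P.card := h1 ▸ Dvd.intro_left _ rfl
      exact (Nat.Coprime.dvd_of_dvd_mul_right
        (Nat.Coprime.coprime_dvd_left d2 (Nat.Coprime.coprime_dvd_right d4 hcop.symm)) h2)
    · have h2 : Q.card ∣ Q₁.card * P₁.card := h1 ▸ Dvd.intro _ rfl
      exact (Nat.Coprime.dvd_of_dvd_mul_left
        (Nat.Coprime.coprime_dvd_left d3 (Nat.Coprime.coprime_dvd_right d1 hcop.symm)) h2)
  have h3 := H112.Clif.card_res hM hV T hGT (by
    rw [← Subgroup.index, hTi]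
    exact hmc) φ Q₁ hQ₁
  rw [e1, hPQ, h3]
  congr 1
  exact Nat.card_congr (Equiv.subtypeEquivRight fun l => and_congr (hchar l).symm Iff.rfl)

/-- A character over an irreducible character of an intermediate subgroup. -/
theorem exists_between [Fintype G] (S N : Subgroup G) [Fintype S] [Fintype N] (hSN : S ≤ N)
    {χ : IrrCharacter G} {η : IrrCharacter S} (h : Ov S χ η) :
    ∃ θ : IrrCharacter N, Ov N χ θ ∧ ∑ᶠ x : S, (η : S → ℂ) x *
      (starRingEnd ℂ) ((θ : N → ℂ) ⟨x, hSN x.2⟩) ≠ 0 := by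
  classical
  have := Characters.Core.finite_irr (G := N)
  have := Fintype.ofFinite (IrrCharacter N)
  obtain ⟨c, hc, hc'⟩ := CharDeep.CliffordCorr.exists_nat_coeffs
    (Characters.Clifford.isCharacter_restrict N (Characters.Core.isIrr_isCharacter χ.2))
  by_contra hcon
  push Not at hcon
  rw [ov_iff_cov] at h
  apply h
  have h1 : ∀ x : S, (χ : G → ℂ) x = ∑ θ : IrrCharacter N, (c θ : ℂ) * (θ : N → ℂ) ⟨x, hSN x.2⟩ := by
    intro x
    have h2 := congrFun hc ⟨x, hSN x.2⟩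
    rw [Finset.sum_apply] at h2
    exact h2
  rw [finsum_eq_sum_of_fintype]
  have h3 : ∀ x : S, (η : S → ℂ) x * (starRingEnd ℂ) ((χ : G → ℂ) x) =
      ∑ θ : IrrCharacter N, (c θ : ℂ) * ((η : S → ℂ) x * (starRingEnd ℂ) ((θ : N → ℂ) ⟨x, hSN x.2⟩)) := by
    intro x
    rw [h1, map_sum, Finset.mul_sum]
    refine Finset.sum_congr rfl fun θ _ => ?_
    rw [map_mul, Complex.conj_natCast]
    ring
  rw [Finset.sum_congr rfl fun x _ => h3 x, Finset.sum_comm]
  refine Finset.sum_eq_zero fun θ _ => ?_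
  rw [← Finset.mul_sum]
  by_cases h0 : c θ = 0
  · rw [h0, Nat.cast_zero, zero_mul]
  · have h4 := hcon θ (by
      rw [ov_iff, hc']
      exact_mod_cast h0)
    rw [finsum_eq_sum_of_fintype] at h4
    rw [h4, mul_zero]

/-- **The descent inequality.** -/
theorem desc_le (hM : IsPModular p M) (hV : Above M V) (S : Subgroup G) [S.Normal]
    (hcyc : IsCyclic (G ⧸ S)) {B : Set (IrrCharacter G)} (hB : IsPBlock M B)
    {B' : Set (IrrCharacter S)} (hB' : IsPBlock M B') (hcov : Cov S B B')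
    (Z : G →* ℂˣ) (hZS : ∀ x ∈ S, Z x = 1) [Fintype Z.ker]
    (hZ : ∀ c : Set (IrrCharacter Z.ker), IsPBlock M c →
      (∃ χ ∈ B, ∃ θ ∈ c, classInner (fun n : Z.ker => (χ : G → ℂ) n) (θ : Z.ker → ℂ) ≠ 0) →
      ∀ g : G, H648.Dict.conjN Z.ker g c = c → Z g = 1)
    [Fintype (ibrUnder V B)] (Q : IBr V G → Finset (IBr V (pKer S p)))
    (hQ : ∀ i ∈ ibrUnder V B, IsRes p (pKer S p) i (Q i)) :
    blockRank p B' * orderOf Z ≤ ∑ i : ibrUnder V B,
      Nat.card {l : G →* ℂˣ // ((∀ x ∈ S, l x = 1) ∧ (orderOf l).Coprime p) ∧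
        (fun g => (l g : ℂ) * phi p (i : IBr V G) g) = phi p (i : IBr V G)} * (Q i).card := by
  classical
  have := Fintype.ofFinite G
  have := Fintype.ofFinite S
  have hMp := isPrime_of_isPModular hM
  have hSN : S ≤ Z.ker := fun x hx => hZS x hx
  obtain ⟨χ, hχ, η, hη, hne⟩ := hcov
  obtain ⟨θ, hθ, hθη⟩ := exists_between S Z.ker hSN ((ov_iff_cov S χ η).2 hne)
  choose O hOne hO hO1 hO2 using H112.Clif.clifford_cyclic (V := V) hM hV S hcyc
  have hc : IsPBlock M (blockOf M (θ : Z.ker → ℂ)) := ⟨θ, rfl⟩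
  have hθc : θ ∈ blockOf M (θ : Z.ker → ℂ) := Blocks.Induced.sameBlock_refl hMp _
  have hBc : ∃ χ ∈ B, ∃ θ' ∈ blockOf M (θ : Z.ker → ℂ),
      classInner (fun n : Z.ker => (χ : G → ℂ) n) (θ' : Z.ker → ℂ) ≠ 0 :=
    ⟨χ, hχ, θ, hθc, (ov_iff Z.ker χ θ).1 hθ⟩
  have h1 := star hM hV S Z.ker hSN hcyc hB hc hB' hBc ⟨θ, hθc, η, hη, hθη⟩
    (fun g hg => hZ _ hc hBc g hg) O (fun i _ => hO i)
  rw [index_ker] at h1
  refine h1.trans (le_of_eq ?_)
  refine Finset.sum_congr rfl fun i _ => ?_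
  exact card_split hM hV S hcyc (hO i) (hQ i i.2)

/-- The descent inequality, exchanging the sums. -/
theorem desc_le_fix (hM : IsPModular p M) (hV : Above M V) (S : Subgroup G) [S.Normal]
    (hcyc : IsCyclic (G ⧸ S)) {B : Set (IrrCharacter G)} (hB : IsPBlock M B)
    {B' : Set (IrrCharacter S)} (hB' : IsPBlock M B') (hcov : Cov S B B')
    (Z : G →* ℂˣ) (hZS : ∀ x ∈ S, Z x = 1) [Fintype Z.ker]
    (hZ : ∀ c : Set (IrrCharacter Z.ker), IsPBlock M c →
      (∃ χ ∈ B, ∃ θ ∈ c, classInner (fun n : Z.ker => (χ : G → ℂ) n) (θ : Z.ker → ℂ) ≠ 0) →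
      ∀ g : G, H648.Dict.conjN Z.ker g c = c → Z g = 1)
    [Fintype (APrime S p)] (k : ℕ)
    (hk : ∀ i ∈ ibrUnder V B, ∀ Q : Finset (IBr V (pKer S p)), IsRes p (pKer S p) i Q → Q.card ≤ k) :
    blockRank p B' * orderOf Z ≤ k * ∑ l : APrime S p,
      Nat.card {i : IBr V G // i ∈ ibrUnder V B ∧
        (fun g => ((l : G →* ℂˣ) g : ℂ) * phi p i g) = phi p i} := by
  classical
  have := Fintype.ofFinite (IBr V G)
  have := Fintype.ofFinite (ibrUnder V B)
  choose Q hQne hQ hQ1 hQ2 using H112.Clif.clifford_cyclic (V := V) hM hV (pKer S p)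
    (isCyclic_quot (le_pKer S p) hcyc)
  refine (desc_le hM hV S hcyc hB hB' hcov Z hZS hZ Q (fun i _ => hQ i)).trans ?_
  have h1 : ∀ i : ibrUnder V B, Nat.card {l : G →* ℂˣ // ((∀ x ∈ S, l x = 1) ∧ (orderOf l).Coprime p) ∧
      (fun g => (l g : ℂ) * phi p (i : IBr V G) g) = phi p (i : IBr V G)} =
      ∑ l : APrime S p, if (fun g => ((l : G →* ℂˣ) g : ℂ) * phi p (i : IBr V G) g) = phi p (i : IBr V G)
        then 1 else 0 := by
    intro i
    rw [Finset.sum_boole, Nat.cast_id, ← Fintype.card_subtype, ← Nat.card_eq_fintype_card]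
    exact Nat.card_congr (Equiv.subtypeSubtypeEquivSubtypeInter _ _).symm
  have h2 : ∀ l : APrime S p, Nat.card {i : IBr V G // i ∈ ibrUnder V B ∧
        (fun g => ((l : G →* ℂˣ) g : ℂ) * phi p i g) = phi p i} =
      ∑ i : ibrUnder V B, if (fun g => ((l : G →* ℂˣ) g : ℂ) * phi p (i : IBr V G) g) =
        phi p (i : IBr V G) then 1 else 0 := by
    intro l
    rw [Finset.sum_boole, Nat.cast_id, ← Fintype.card_subtype, ← Nat.card_eq_fintype_card]
    exact Nat.card_congr (Equiv.subtypeSubtypeEquivSubtypeInter _ _).symm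
  calc ∑ i : ibrUnder V B, Nat.card {l : G →* ℂˣ // ((∀ x ∈ S, l x = 1) ∧ (orderOf l).Coprime p) ∧
        (fun g => (l g : ℂ) * phi p (i : IBr V G) g) = phi p (i : IBr V G)} * (Q i).card
      ≤ ∑ i : ibrUnder V B, k * ∑ l : APrime S p, (if (fun g => ((l : G →* ℂˣ) g : ℂ) *
        phi p (i : IBr V G) g) = phi p (i : IBr V G) then 1 else 0) := by
        refine Finset.sum_le_sum fun i _ => ?_
        rw [h1 i, mul_comm]
        exact Nat.mul_le_mul_right _ (hk i i.2 _ (hQ i))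
    _ = k * ∑ l : APrime S p, Nat.card {i : IBr V G // i ∈ ibrUnder V B ∧
        (fun g => ((l : G →* ℂˣ) g : ℂ) * phi p i g) = phi p i} := by
        rw [← Finset.mul_sum, Finset.sum_comm]
        congr 1
        exact Finset.sum_congr rfl fun l _ => (h2 l).symm

/-- The number of constituents on `pKer S p` is the order of a linear character fixing a member of the block. -/
theorem exists_fixed_pKer (hM : IsPModular p M) (hV : Above M V) (S : Subgroup G) [S.Normal]
    (hcyc : IsCyclic (G ⧸ S)) {B : Set (IrrCharacter G)} (hB : IsPBlock M B)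
    {i : IBr V G} (hi : i ∈ ibrUnder V B) {Q : Finset (IBr V (pKer S p))} (hQ : IsRes p (pKer S p) i Q) :
    ∃ (l : G →* ℂˣ) (χ : IrrCharacter G), χ ∈ B ∧ (∀ x ∈ S, l x = 1) ∧ orderOf l = Q.card ∧
      (∃ j : ℕ, Q.card = p ^ j) ∧ ∀ g, (l g : ℂ) * (χ : G → ℂ) g = (χ : G → ℂ) g := by
  obtain ⟨lp, lq, a, m, ham, hmc, hlp, hlq, hK, hSq, hchar⟩ := exists_split S hcyc hM.1
  have hKi : (pKer S p).index = p ^ a := by rw [hK, index_ker, hlp]
  have hGK : IsCyclic (G ⧸ pKer S p) := isCyclic_quot (le_pKer S p) hcyc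
  obtain ⟨l, χ, h1, h2, h3, h4⟩ := exists_fixed hM hV (pKer S p) hGK (a := a) hKi hB i hi Q hQ
  refine ⟨l, χ, h1, fun x hx => h2 x (le_pKer S p hx), h3, ?_, h4⟩
  have h5 := card_dvd_index hM hV (pKer S p) hGK hQ
  rw [hKi] at h5
  obtain ⟨j, -, hj⟩ := (Nat.dvd_prime_pow hM.1).1 h5
  exact ⟨j, hj⟩

end

end Cfsg.Agent.H666.Clif
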