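import Cfsg.Agent.H666.Clif.TwistIBr
import Cfsg.Agent.H649.Transport

/-!
# Brauer characters over a covered block

* `exists_ibr_over`: if `B` covers the block of `ε`, every Brauer character of that block lies under a member of
  `IBr(B)`;
* `card_conj_mul_blockRank_le`: the number of conjugates of `B'` times its rank is at most the sum of the numbers of
  constituents.
-/

set_option autoImplicit false

open Cfsg IsLocalRing Module
open scoped ComplexConjugate
open Cfsg.Agent.H657 Cfsg.Agent.H577.GLB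
open Cfsg.Agent.H608.BlockRank Cfsg.Agent.Blocks.Basic Cfsg.Agent.Blocks.Local
open Cfsg.Agent.Blocks.Covering (conjIrr conjIrr_apply sameBlock_conjIrr conjIrr_conjIrr conjIrr_one)

namespace Cfsg.Agent.H666.Clif

universe u

section

variable {V : ValuationSubring ℂ} {G : Type u} [Group G] [Finite G] {p : ℕ} {M : Ideal AlgInt}

theorem restr_phi_mem' (hM : IsPModular p M) (hV : Above M V) (N : Subgroup G)
    {B : Set (IrrCharacter G)} (hB : IsUnion M B) {A : Set (IrrCharacter N)} (hA : IsUnion M A)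
    (hsub : below N B ⊆ A) {i : IBr V G} (hiB : i ∈ ibrUnder V B) :
    (fun n : N => phi p i n) ∈ Submodule.span ℂ (phi p '' ibrUnder V A) := by
  have h1 : phi p i ∈ Submodule.span ℂ (phi p '' ibrUnder V B) := Submodule.subset_span ⟨i, hiB, rfl⟩
  rw [← map_pReg_charSpan hM hV hB] at h1
  obtain ⟨f, hf, hf'⟩ := h1
  rw [← map_pReg_charSpan hM hV hA]
  have h2 : (fun n : N => f n) ∈ charSpan A := by
    have h3 := restr_mem N B hf
    unfold charSpan at h3 ⊢
    exact Submodule.span_mono (Set.image_mono hsub) h3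
  refine ⟨_, h2, ?_⟩
  rw [← hf']
  funext n
  by_cases h : IsPRegular p n
  · rw [pReg_of h, pReg_of ((pRegular_coe n).2 h)]
  · rw [pReg_of_not h, pReg_of_not (fun h' => h ((pRegular_coe n).1 h'))]

/-- The constituents of the restriction of a member of `IBr(B)` lie in any union of blocks containing the
characters below `B`. -/
theorem mem_ibrUnder_of (hM : IsPModular p M) (hV : Above M V) (N : Subgroup G)
    {B : Set (IrrCharacter G)} (hB : IsUnion M B) {A : Set (IrrCharacter N)} (hA : IsUnion M A)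
    (hsub : below N B ⊆ A) {i : IBr V G} (hiB : i ∈ ibrUnder V B) {O : Finset (IBr V N)}
    (hO : IsRes p N i O) {j : IBr V N} (hj : j ∈ O) : j ∈ ibrUnder V A := by
  classical
  have : Fact p.Prime := ⟨hM.1⟩
  have : CharP (ResidueField V) p := hV.charP hM
  have h1 := restr_phi_mem' hM hV N hB hA hsub hiB
  have h2 : (fun n : N => phi p i n) = ∑ j ∈ O, phi p j := by
    funext n
    rw [Finset.sum_apply]
    exact hO n
  rw [h2] at h1
  by_contra hcon
  have hli := linearIndependent_phi (V := V) (G := N) (p := p)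
  have h3 : phi p j ∈ Submodule.span ℂ (phi p '' ({j}ᶜ : Set (IBr V N))) := by
    have h4 : phi p j = ∑ j ∈ O, phi p j - ∑ j ∈ O.erase j, phi p j := by
      rw [← Finset.add_sum_erase O (fun j => phi p j) hj]
      abel
    rw [h4]
    refine Submodule.sub_mem _ (Submodule.span_mono (Set.image_mono ?_) h1) ?_
    · intro x hx hxj
      rw [Set.mem_singleton_iff] at hxj
      exact hcon (hxj ▸ hx)
    · refine Submodule.sum_mem _ fun x hx => Submodule.subset_span ⟨x, ?_, rfl⟩
      exact fun h => (Finset.mem_erase.1 hx).1 h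
  exact hli.notMem_span_image (s := ({j}ᶜ : Set (IBr V N))) (by simp) h3

theorem ibrUnder_tl (hM : IsPModular p M) (hV : Above M V) {B : Set (IrrCharacter G)} (hB : IsPBlock M B)
    {l : G →* ℂˣ} {i i' : IBr V G} (h : ∀ g, phi p i' g = (l g : ℂ) * phi p i g)
    (hi : i ∈ ibrUnder V B) : i' ∈ ibrUnder V (tl l '' B) := by
  have : Fact p.Prime := ⟨hM.1⟩
  have : CharP (ResidueField V) p := hV.charP hM
  have hMp := isPrime_of_isPModular hM
  have h1 : phi p i ∈ Submodule.span ℂ (phi p '' ibrUnder V B) := Submodule.subset_span ⟨i, hi, rfl⟩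
  rw [← map_pReg_charSpan hM hV (isUnion_of_isPBlock hMp hB)] at h1
  obtain ⟨f, hf, hf'⟩ := h1
  have h2 : phi p i' ∈ (charSpan (tl l '' B)).map (pReg p) := by
    refine ⟨fun g => (l g : ℂ) * f g, ?_, ?_⟩
    · change (fun g => (l g : ℂ) * f g) ∈ charSpan (tl l '' B)
      unfold charSpan at hf ⊢
      clear hf'
      induction hf using Submodule.span_induction with
      | mem f hf =>
        obtain ⟨χ, hχ, rfl⟩ := hf
        exact Submodule.subset_span ⟨tl l χ, ⟨χ, hχ, rfl⟩, rfl⟩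
      | zero =>
        have : (fun g => (l g : ℂ) * (0 : G → ℂ) g) = 0 := by
          funext g; simp
        rw [this]
        exact Submodule.zero_mem _
      | add f f' _ _ h1 h2 =>
        have : (fun g => (l g : ℂ) * (f + f') g) = (fun g => (l g : ℂ) * f g) + fun g => (l g : ℂ) * f' g := by
          funext g; simp [mul_add]
        rw [this]
        exact Submodule.add_mem _ h1 h2
      | smul c f _ h1 =>
        have : (fun g => (l g : ℂ) * (c • f) g) = c • fun g => (l g : ℂ) * f g := by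
          funext g; simp only [Pi.smul_apply, smul_eq_mul]; ring
        rw [this]
        exact Submodule.smul_mem _ c h1
    · funext g
      by_cases hg : IsPRegular p g
      · rw [pReg_of hg, h, ← hf', pReg_of hg]
      · rw [pReg_of_not hg, phi_of_not _ hg]
  rw [map_pReg_charSpan hM hV (isUnion_of_isPBlock hMp (isPBlock_tl hMp l hB))] at h2
  by_contra hcon
  exact (linearIndependent_phi (V := V) (G := G) (p := p)).notMem_span_image hcon h2

/-- The union of the blocks meeting a set. -/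
def clos (M : Ideal AlgInt) (A : Set (IrrCharacter G)) : Set (IrrCharacter G) :=
  {ε | ∃ ε' ∈ A, SameBlock M (ε' : G → ℂ) (ε : G → ℂ)}

omit [Finite G] in
theorem isUnion_clos (hMp : M.IsPrime) (A : Set (IrrCharacter G)) : IsUnion M (clos M A) := by
  rintro χ ψ h ⟨ε, hε, hs⟩
  exact ⟨ε, hε, Blocks.Covering.sameBlock_trans hMp hs h⟩

omit [Finite G] in
theorem subset_clos (hMp : M.IsPrime) (A : Set (IrrCharacter G)) : A ⊆ clos M A := by
  intro χ hχ
  exact ⟨χ, hχ, Blocks.Induced.sameBlock_refl hMp _⟩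

omit [Finite G] in
theorem eq_of_mem_mem (hMp : M.IsPrime) {B B' : Set (IrrCharacter G)} (hB : IsPBlock M B) (hB' : IsPBlock M B')
    {χ : IrrCharacter G} (h : χ ∈ B) (h' : χ ∈ B') : B = B' := by
  ext ψ
  constructor
  · intro hψ
    exact Blocks.Covering.mem_of_sameBlock hMp hB' h' (Blocks.Covering.sameBlock_of_mem hMp hB h hψ)
  · intro hψ
    exact Blocks.Covering.mem_of_sameBlock hMp hB h (Blocks.Covering.sameBlock_of_mem hMp hB' h' hψ)

/-- If `B` covers the block of `ε`, every member of `IBr` of that block lies under a member of `IBr(B)`. -/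
theorem exists_ibr_over (hM : IsPModular p M) (hV : Above M V) (N : Subgroup G) [N.Normal]
    (hc : IsCyclic (G ⧸ N))
    (hov : ∀ j : IBr V N, ∃ (i : IBr V G) (O : Finset (IBr V N)), IsRes p N i O ∧ j ∈ O)
    {B : Set (IrrCharacter G)} (hB : IsPBlock M B) {χ : IrrCharacter G} (hχ : χ ∈ B)
    {B' : Set (IrrCharacter N)} (hB' : IsPBlock M B') {ε : IrrCharacter N} (hε : ε ∈ B') (h : Ov N χ ε)
    {j : IBr V N} (hj : j ∈ ibrUnder V B') :
    ∃ i ∈ ibrUnder V B, ∃ O : Finset (IBr V N), IsRes p N i O ∧ j ∈ O := by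
  have hMp := isPrime_of_isPModular hM
  obtain ⟨i, O, hO, hjO⟩ := hov j
  obtain ⟨χ₀, hχ₀⟩ := exists_under hM hV i
  set B₁ := blockOf M (χ₀ : G → ℂ) with hB₁
  have hB₁p : IsPBlock M B₁ := ⟨χ₀, rfl⟩
  have hi : i ∈ ibrUnder V B₁ := ⟨χ₀, Blocks.Induced.sameBlock_refl hMp _, hχ₀⟩
  obtain ⟨ε₁, ⟨ε₂, ⟨χ₁, hχ₁, hχ₁ε⟩, hs⟩, hu⟩ := mem_ibrUnder_of hM hV N (isUnion_of_isPBlock hMp hB₁p)
    (isUnion_clos hMp (below N B₁)) (subset_clos hMp _) hi hO hjO
  obtain ⟨ε₃, hε₃, hu₃⟩ := hj
  have hs2 : SameBlock M (ε : N → ℂ) (ε₂ : N → ℂ) :=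
    Blocks.Covering.sameBlock_trans hMp (Blocks.Covering.sameBlock_of_mem hMp hB' hε hε₃)
      (Blocks.Covering.sameBlock_trans hMp (under_sameBlock hM hV ε₃.2 ε₁.2 hu₃ hu)
        (Blocks.Covering.sameBlock_symm hs))
  obtain ⟨ψ, hψB, hψ⟩ := cover hM N hc hB hχ h hs2
  obtain ⟨l, hl, hlψ⟩ := exists_tl N hc hχ₁ε hψ
  obtain ⟨i', hi'⟩ := exists_tw hM hV l i
  refine ⟨i', ?_, O, fun x => ?_, hjO⟩
  · have h1 := ibrUnder_tl hM hV hB₁p hi' hi
    have h2 : tl l '' B₁ = B := eq_of_mem_mem hMp (isPBlock_tl hMp l hB₁p) hB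
      (χ := ψ) ⟨χ₁, hχ₁, hlψ.symm⟩ hψB
    rwa [h2] at h1
  · rw [hi', hl x x.2, Units.val_one, one_mul]
    exact hO x

/-! ### Conjugates -/

theorem conjIrr_eq_irrMap (N : Subgroup G) [N.Normal] (g : G) (θ : IrrCharacter N) :
    conjIrr N g θ = H649.irrMap (MulAut.conjNormal (H := N) g).symm θ := by
  apply Subtype.ext
  funext n
  rfl

theorem blockRank_conj (N : Subgroup G) [N.Normal] (g : G) (B' : Set (IrrCharacter N)) :
    blockRank p (conjIrr N g '' B') = blockRank p B' := by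
  rw [← H649.blockRank_blkMap (MulAut.conjNormal (H := N) g).symm p B']
  congr 1

theorem conjIrr_inv (N : Subgroup G) [N.Normal] (g : G) (θ : IrrCharacter N) :
    conjIrr N g⁻¹ (conjIrr N g θ) = θ := by
  rw [conjIrr_conjIrr, mul_inv_cancel, conjIrr_one]

theorem conjIrr_inv' (N : Subgroup G) [N.Normal] (g : G) (θ : IrrCharacter N) :
    conjIrr N g (conjIrr N g⁻¹ θ) = θ := by
  rw [conjIrr_conjIrr, inv_mul_cancel, conjIrr_one]

theorem isPBlock_conj (hMp : M.IsPrime) (N : Subgroup G) [N.Normal] (g : G) {B' : Set (IrrCharacter N)}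
    (hB' : IsPBlock M B') : IsPBlock M (conjIrr N g '' B') := by
  obtain ⟨θ, rfl⟩ := hB'
  refine ⟨conjIrr N g θ, ?_⟩
  ext ψ
  constructor
  · rintro ⟨η, hη, rfl⟩
    exact sameBlock_conjIrr N g hη
  · intro h
    refine ⟨conjIrr N g⁻¹ ψ, ?_, conjIrr_inv' N g ψ⟩
    have h1 := sameBlock_conjIrr N g⁻¹ (θ := conjIrr N g θ) (ψ := ψ) h
    rw [conjIrr_inv] at h1
    exact h1

theorem ov_conj (N : Subgroup G) [N.Normal] (g : G) {χ : IrrCharacter G} {ε : IrrCharacter N} (h : Ov N χ ε) :
    Ov N χ (conjIrr N g ε) := by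
  have := Fintype.ofFinite G
  have := Fintype.ofFinite N
  rw [ov_iff] at h ⊢
  have h1 := Characters.Clifford.classInner_restrict_conjNormal (N := N)
    (Characters.Core.isIrr_isClassFunction χ.2) (ε : N → ℂ) g
  intro h0
  apply h
  rw [← h1]
  exact h0

/-- the conjugates of a block of `N` -/
def conjs (N : Subgroup G) [N.Normal] (B' : Set (IrrCharacter N)) : Set (Set (IrrCharacter N)) :=
  {b | ∃ g : G, b = conjIrr N g '' B'}

/-- (2c): the number of conjugates of `B'` times its rank is at most the sum of the numbers of constituents. -/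
theorem card_conj_mul_blockRank_le (hM : IsPModular p M) (hV : Above M V) (N : Subgroup G) [N.Normal]
    (hc : IsCyclic (G ⧸ N))
    (hov : ∀ j : IBr V N, ∃ (i : IBr V G) (O : Finset (IBr V N)), IsRes p N i O ∧ j ∈ O)
    {B : Set (IrrCharacter G)}
    (hB : IsPBlock M B) {B' : Set (IrrCharacter N)} (hB' : IsPBlock M B') (hcov : Cov N B B')
    (O : IBr V G → Finset (IBr V N)) (hO : ∀ i ∈ ibrUnder V B, IsRes p N i (O i))
    [Fintype (ibrUnder V B)] :
    Set.ncard (conjs N B') * blockRank p B' ≤ ∑ i : ibrUnder V B, (O i).card := by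
  classical
  have : Fact p.Prime := ⟨hM.1⟩
  have : CharP (ResidueField V) p := hV.charP hM
  have hMp := isPrime_of_isPModular hM
  have := Characters.Core.finite_irr (G := N)
  have hfin : (conjs N B').Finite := Set.toFinite _
  have hblk : ∀ b ∈ conjs N B', IsPBlock M b := by
    rintro _ ⟨g, rfl⟩
    exact isPBlock_conj hMp N g hB'
  -- the rank of the union of the conjugates
  have h1 : blockRank p (⋃₀ (conjs N B')) = Set.ncard (conjs N B') * blockRank p B' := by
    have h2 := blockRank_sUnion hM (S := hfin.toFinset) (fun b hb => hblk b (hfin.mem_toFinset.1 hb))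
    rw [Set.Finite.coe_toFinset] at h2
    rw [h2]
    have h3 : ∀ b ∈ hfin.toFinset, blockRank p b = blockRank p B' := by
      intro b hb
      obtain ⟨g, rfl⟩ := hfin.mem_toFinset.1 hb
      exact blockRank_conj N g B'
    rw [Finset.sum_congr rfl h3, Finset.sum_const, smul_eq_mul, Set.ncard_eq_toFinset_card _ hfin]
  have hU : IsUnion M (⋃₀ (conjs N B')) := by
    rintro χ ψ h ⟨b, hb, hχ⟩
    exact ⟨b, hb, isUnion_of_isPBlock hMp (hblk b hb) χ ψ h hχ⟩
  rw [← h1, blockRank_eq_card hM hV hU]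
  obtain ⟨χ, hχ, ε, hε, hne⟩ := hcov
  have hχε : Ov N χ ε := (ov_iff_cov N χ ε).2 hne
  have key : ∀ j ∈ ibrUnder V (⋃₀ (conjs N B')), ∃ i : ibrUnder V B, j ∈ O i := by
    rintro j ⟨η, ⟨b, ⟨g, rfl⟩, hη⟩, hu⟩
    obtain ⟨i, hi, Oi, hOi, hj⟩ := exists_ibr_over hM hV N hc hov hB hχ (isPBlock_conj hMp N g hB')
      (ε := conjIrr N g ε) ⟨ε, hε, rfl⟩ (ov_conj N g hχε) ⟨η, hη, hu⟩
    refine ⟨⟨i, hi⟩, ?_⟩
    rw [isRes_unique hM hV N (hO i hi) hOi]
    exact hj
  have hsub : ibrUnder V (⋃₀ (conjs N B')) ⊆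
      ((Finset.univ.biUnion fun i : ibrUnder V B => O i : Finset (IBr V N)) : Set (IBr V N)) := by
    intro j hj
    obtain ⟨i, hij⟩ := key j hj
    rw [Finset.mem_coe, Finset.mem_biUnion]
    exact ⟨i, Finset.mem_univ _, hij⟩
  refine le_trans ?_ (Finset.card_biUnion_le)
  rw [Nat.card_coe_set_eq, ← Set.ncard_coe_finset]
  exact Set.ncard_le_ncard hsub (Finset.finite_toSet _)

end

end Cfsg.Agent.H666.Clif
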