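import Cfsg.Agent.H666.Clif.Gall

/-!
# Covered blocks

* `cover`: if the block `B` covers `B'` (normal subgroup with cyclic quotient), every member of `B'` lies under
  a member of `B`.
-/

set_option autoImplicit false

open Cfsg IsLocalRing Module
open scoped ComplexConjugate
open Cfsg.Agent.H657 Cfsg.Agent.H577.GLB
open Cfsg.Agent.H608.BlockRank Cfsg.Agent.Blocks.Basic Cfsg.Agent.Blocks.Local

namespace Cfsg.Agent.H666.Clif

universe u

section

variable {G : Type u} [Group G] [Finite G] {p : ℕ} {M : Ideal AlgInt}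

/-- The value of the central character of `ε` at the truncation to `N` of the idempotent of `B`. -/
noncomputable def cf (N : Subgroup G) (B : Set (IrrCharacter G)) (ε : IrrCharacter N) : ℂ :=
  ∑ᶠ n : N, blockCoeff B (n : G) * ((ε : N → ℂ) n / (ε : N → ℂ) 1)

open Classical in
theorem cf_eq [Fintype G] (N : Subgroup G) [Fintype N] [Fintype (IrrCharacter G)]
    (B : Set (IrrCharacter G)) (ε : IrrCharacter N) :
    cf N B ε = (Nat.card G : ℂ)⁻¹ * (Nat.card N : ℂ) / (ε : N → ℂ) 1 *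
      ∑ χ : IrrCharacter G, if χ ∈ B then (χ : G → ℂ) 1 *
        conj (classInner (fun n : N => (χ : G → ℂ) n) (ε : N → ℂ)) else 0 := by
  unfold cf
  rw [finsum_eq_sum_of_fintype]
  have h1 : ∀ n : N, blockCoeff B (n : G) * ((ε : N → ℂ) n / (ε : N → ℂ) 1) =
      (Nat.card G : ℂ)⁻¹ / (ε : N → ℂ) 1 * ∑ χ : IrrCharacter G,
        (if χ ∈ B then (χ : G → ℂ) 1 * (conj ((χ : G → ℂ) n) * (ε : N → ℂ) n) else 0) := by
    intro n
    rw [Blocks.Osima.blockCoeff_eq_sum, mul_assoc, Finset.sum_mul, Finset.mul_sum, Finset.mul_sum]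
    refine Finset.sum_congr rfl fun χ _ => ?_
    split_ifs
    · ring
    · ring
  rw [Finset.sum_congr rfl fun n _ => h1 n, ← Finset.mul_sum, Finset.sum_comm]
  have h2 : ∀ χ : IrrCharacter G, ∑ n : N, (if χ ∈ B then (χ : G → ℂ) 1 *
      (conj ((χ : G → ℂ) n) * (ε : N → ℂ) n) else 0) = (Nat.card N : ℂ) *
      (if χ ∈ B then (χ : G → ℂ) 1 *
        conj (classInner (fun n : N => (χ : G → ℂ) n) (ε : N → ℂ)) else 0) := by
    intro χ
    split_ifs
    · unfold classInner
      rw [← Finset.mul_sum, map_mul, map_inv₀, Complex.conj_natCast, map_sum]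
      have hN : (Nat.card N : ℂ) ≠ 0 := by exact_mod_cast Nat.card_pos.ne'
      have h3 : ∑ n : N, conj ((χ : G → ℂ) n) * (ε : N → ℂ) n =
          ∑ n : N, conj ((χ : G → ℂ) n * conj ((ε : N → ℂ) n)) := by
        refine Finset.sum_congr rfl fun n _ => ?_
        rw [map_mul, Complex.conj_conj]
      rw [h3]
      field_simp
    · simp
  rw [Finset.sum_congr rfl fun χ _ => h2 χ, ← Finset.mul_sum]
  ring

theorem cf_ne_zero_iff (N : Subgroup G) (B : Set (IrrCharacter G)) (ε : IrrCharacter N) :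
    cf N B ε ≠ 0 ↔ ∃ χ ∈ B, Ov N χ ε := by
  classical
  have := Fintype.ofFinite G
  have := Fintype.ofFinite N
  have := Characters.Core.finite_irr (G := G)
  have := Fintype.ofFinite (IrrCharacter G)
  choose m hm using fun χ : IrrCharacter G => Characters.Core.classInner_isNat
    (Characters.Clifford.isCharacter_restrict N (Characters.Core.isIrr_isCharacter χ.2))
    (Characters.Core.isIrr_isCharacter ε.2)
  choose d hd0 hd using fun χ : IrrCharacter G => Characters.Core.isIrr_apply_one χ.2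
  rw [cf_eq]
  have h1 : ∑ χ : IrrCharacter G, (if χ ∈ B then (χ : G → ℂ) 1 *
        conj (classInner (fun n : N => (χ : G → ℂ) n) (ε : N → ℂ)) else 0) =
      ((∑ χ : IrrCharacter G, if χ ∈ B then d χ * m χ else 0 : ℕ) : ℂ) := by
    push_cast
    refine Finset.sum_congr rfl fun χ _ => ?_
    rw [hm, hd, Complex.conj_natCast]
  rw [h1]
  have hG : (Nat.card G : ℂ)⁻¹ ≠ 0 := inv_ne_zero (by exact_mod_cast Nat.card_pos.ne')
  have hN : (Nat.card N : ℂ) ≠ 0 := by exact_mod_cast Nat.card_pos.ne'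
  have hε : (ε : N → ℂ) 1 ≠ 0 := Characters.Core.isIrr_apply_one_ne_zero ε.2
  constructor
  · intro h
    have h2 := right_ne_zero_of_mul h
    have h3 : (∑ χ : IrrCharacter G, if χ ∈ B then d χ * m χ else 0) ≠ 0 := by exact_mod_cast h2
    obtain ⟨χ, -, hχ⟩ := Finset.exists_ne_zero_of_sum_ne_zero h3
    by_cases hχB : χ ∈ B
    · refine ⟨χ, hχB, ?_⟩
      rw [if_pos hχB] at hχ
      rw [ov_iff, hm]
      exact_mod_cast right_ne_zero_of_mul hχ
    · rw [if_neg hχB] at hχ
      exact absurd rfl hχ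
  · rintro ⟨χ, hχB, hχ⟩
    refine mul_ne_zero (div_ne_zero (mul_ne_zero hG hN) hε) ?_
    rw [ov_iff, hm] at hχ
    have hχ' : m χ ≠ 0 := by exact_mod_cast hχ
    have h3 : (∑ χ : IrrCharacter G, if χ ∈ B then d χ * m χ else 0) ≠ 0 := by
      intro h0
      have h4 := Finset.sum_eq_zero_iff.1 h0 χ (Finset.mem_univ _)
      rw [if_pos hχB] at h4
      exact mul_ne_zero (hd0 χ).ne' hχ' h4
    exact_mod_cast h3

theorem cf_sub_mem (hM : IsPModular p M) (N : Subgroup G) [N.Normal] {B : Set (IrrCharacter G)}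
    (hB : IsUnion M B) {ε ε' : IrrCharacter N} (h : SameBlock M (ε : N → ℂ) (ε' : N → ℂ)) :
    MemLocalIdeal M (cf N B ε - cf N B ε') := by
  classical
  have := Fact.mk hM.1
  have := Fintype.ofFinite G
  have := Fintype.ofFinite N
  have hMp := isPrime_of_isPModular hM
  unfold cf
  rw [finsum_eq_sum_of_fintype, finsum_eq_sum_of_fintype]
  obtain ⟨s, hs⟩ := Blocks.Covering.sum_invariant N (fun n : N => blockCoeff B (n : G)) (by
    intro g n
    exact Blocks.Osima.isClassFunction_blockCoeff B n g)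
  rw [hs, hs, ← Finset.sum_sub_distrib]
  refine Blocks.Induced.memLocalIdeal_sum hMp _ _ fun r _ => ?_
  rw [← mul_sub]
  refine Blocks.Covering.memLocalIdeal_mul_left hMp
    (Blocks.OsimaUnion.memLocalRing_blockCoeff_union p hM B (fun χ hχ ψ h => hB χ ψ h hχ) (r : G)) ?_
  exact Blocks.Induced.memLocalIdeal_induced_sub hMp N ε ε' h r

theorem cf_tl (N : Subgroup G) {l : G →* ℂˣ} (hl : ∀ x ∈ N, l x = 1) (B : Set (IrrCharacter G))
    (ε : IrrCharacter N) : cf N (tl l '' B) ε = cf N B ε := by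
  unfold cf
  refine finsum_congr fun n => ?_
  congr 1
  unfold blockCoeff
  congr 1
  rw [finsum_mem_image (tl_injective l).injOn]
  refine finsum_congr fun χ => finsum_congr fun _ => ?_
  rw [tl_apply, tl_apply, map_one, hl n n.2, Units.val_one, one_mul, one_mul]

theorem cf_univ (N : Subgroup G) (ε : IrrCharacter N) :
    cf N (Set.univ : Set (IrrCharacter G)) ε = 1 := by
  classical
  have := Fintype.ofFinite N
  unfold cf
  rw [finsum_eq_sum_of_fintype, Finset.sum_eq_single 1]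
  · rw [← Blocks.Osima.coeff_irrIdem, Blocks.Osima.irrIdem_univ]
    rw [div_self (Characters.Core.isIrr_apply_one_ne_zero ε.2)]
    simp
  · intro n _ hn
    rw [← Blocks.Osima.coeff_irrIdem, Blocks.Osima.irrIdem_univ]
    have : (n : G) ≠ 1 := fun h => hn (Subtype.ext h)
    rw [MonoidAlgebra.one_def, MonoidAlgebra.coeff_single, Finsupp.single_apply, if_neg (Ne.symm this),
      zero_mul]
  · intro h
    exact absurd (Finset.mem_univ _) h

theorem cf_sUnion (N : Subgroup G) (𝓑 : Set (Set (IrrCharacter G))) (hd : 𝓑.PairwiseDisjoint id)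
    (ε : IrrCharacter N) : cf N (⋃₀ 𝓑) ε = ∑ᶠ B ∈ 𝓑, cf N B ε := by
  classical
  have := Fintype.ofFinite N
  have := Characters.Core.finite_irr (G := G)
  have hfin : 𝓑.Finite := Set.toFinite _
  have h1 : ∀ g : G, blockCoeff (⋃₀ 𝓑) g = ∑ᶠ B ∈ 𝓑, blockCoeff B g := by
    intro g
    unfold blockCoeff
    rw [finsum_mem_sUnion hd hfin (fun _ _ => Set.toFinite _), finsum_mem_eq_finite_toFinset_sum _ hfin,
      finsum_mem_eq_finite_toFinset_sum _ hfin, Finset.mul_sum]
  unfold cf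
  simp only [finsum_eq_sum_of_fintype]
  rw [finsum_mem_eq_finite_toFinset_sum _ hfin, Finset.sum_comm]
  refine Finset.sum_congr rfl fun n _ => ?_
  rw [h1, finsum_mem_eq_finite_toFinset_sum _ hfin, Finset.sum_mul]

/-- the twists of a block by the linear characters of `G / N` -/
def twists (N : Subgroup G) (B : Set (IrrCharacter G)) : Set (Set (IrrCharacter G)) :=
  {B₁ | ∃ l : G →* ℂˣ, (∀ x ∈ N, l x = 1) ∧ B₁ = tl l '' B}

theorem cf_not_mem (hM : IsPModular p M) (N : Subgroup G) [N.Normal] (hc : IsCyclic (G ⧸ N))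
    {B : Set (IrrCharacter G)} (hB : IsPBlock M B) {χ : IrrCharacter G} (hχ : χ ∈ B)
    {ε : IrrCharacter N} (hε : Ov N χ ε) : ¬ MemLocalIdeal M (cf N B ε) := by
  classical
  have hMp := isPrime_of_isPModular hM
  have := Characters.Core.finite_irr (G := G)
  intro hmem
  set 𝓑 := twists N B with h𝓑
  have hblk : ∀ B₁ ∈ 𝓑, IsPBlock M B₁ := by
    rintro _ ⟨l, -, rfl⟩
    exact isPBlock_tl hMp l hB
  have hdis : 𝓑.PairwiseDisjoint id := by
    intro B₁ h1 B₂ h2 hne
    change Disjoint B₁ B₂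
    rw [Set.disjoint_left]
    intro ψ hψ1 hψ2
    apply hne
    ext η
    constructor
    · intro hη
      exact Blocks.Covering.mem_of_sameBlock hMp (hblk _ h2) hψ2
        (Blocks.Covering.sameBlock_of_mem hMp (hblk _ h1) hψ1 hη)
    · intro hη
      exact Blocks.Covering.mem_of_sameBlock hMp (hblk _ h1) hψ1
        (Blocks.Covering.sameBlock_of_mem hMp (hblk _ h2) hψ2 hη)
  have hall : cf N (⋃₀ 𝓑) ε = 1 := by
    have h1 : cf N ((⋃₀ 𝓑)ᶜ) ε = 0 := by
      by_contra hne
      obtain ⟨ψ, hψ, hψε⟩ := (cf_ne_zero_iff N _ ε).1 hne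
      obtain ⟨l, hl, rfl⟩ := exists_tl N hc hε hψε
      exact hψ ⟨tl l '' B, ⟨l, hl, rfl⟩, ⟨χ, hχ, rfl⟩⟩
    have h2 := cf_univ N ε
    have h3 : ({⋃₀ 𝓑, (⋃₀ 𝓑)ᶜ} : Set (Set (IrrCharacter G))).PairwiseDisjoint id := by
      intro A hA A' hA' hne
      change Disjoint A A'
      rcases hA with rfl | hA <;> rcases hA' with rfl | hA'
      · exact absurd rfl hne
      · rw [Set.mem_singleton_iff.1 hA']
        exact disjoint_compl_right
      · rw [Set.mem_singleton_iff.1 hA]
        exact disjoint_compl_left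
      · rw [Set.mem_singleton_iff.1 hA, Set.mem_singleton_iff.1 hA'] at hne
        exact absurd rfl hne
    have h4 := cf_sUnion N _ h3 ε
    have h5 : ⋃₀ ({⋃₀ 𝓑, (⋃₀ 𝓑)ᶜ} : Set (Set (IrrCharacter G))) = Set.univ := by
      rw [Set.sUnion_pair, Set.union_compl_self]
    rw [h5, h2] at h4
    by_cases hne : (⋃₀ 𝓑) = (⋃₀ 𝓑)ᶜ
    · have : χ ∈ ⋃₀ 𝓑 := ⟨B, ⟨1, fun _ _ => rfl, by
        ext ψ
        constructor
        · intro h; exact ⟨ψ, h, tl_one ψ⟩
        · rintro ⟨η, hη, rfl⟩; rwa [tl_one]⟩, hχ⟩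
      have h6 := this
      rw [hne] at h6
      exact absurd this h6
    · rw [finsum_mem_pair hne, h1, add_zero] at h4
      exact h4.symm
  have hsum : cf N (⋃₀ 𝓑) ε = (Set.ncard 𝓑 : ℂ) * cf N B ε := by
    have hfin : 𝓑.Finite := Set.toFinite _
    rw [cf_sUnion N 𝓑 hdis ε, finsum_mem_eq_finite_toFinset_sum _ hfin]
    have h1 : ∀ B₁ ∈ hfin.toFinset, cf N B₁ ε = cf N B ε := by
      intro B₁ hB₁
      rw [Set.Finite.mem_toFinset] at hB₁
      obtain ⟨l, hl, rfl⟩ := hB₁
      exact cf_tl N hl B ε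
    rw [Finset.sum_congr rfl h1, Finset.sum_const, nsmul_eq_mul, Set.ncard_eq_toFinset_card _ hfin]
  rw [hsum] at hall
  have h7 : MemLocalIdeal M ((Set.ncard 𝓑 : ℂ) * cf N B ε) :=
    Blocks.Covering.memLocalIdeal_mul_left hMp
      (memLocalRing_of_isIntegral (by exact_mod_cast isIntegral_algebraMap (R := ℤ) (A := ℂ) (x := (Set.ncard 𝓑 : ℤ)))) hmem
  rw [hall] at h7
  exact Blocks.Covering.not_memLocalIdeal_one h7

/-- **Covering**: if a member of `B` lies over a member of the block `B'`, every member of `B'` lies under a member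
of `B`. -/
theorem cover (hM : IsPModular p M) (N : Subgroup G) [N.Normal] (hc : IsCyclic (G ⧸ N))
    {B : Set (IrrCharacter G)} (hB : IsPBlock M B) {χ : IrrCharacter G} (hχ : χ ∈ B)
    {ε ε' : IrrCharacter N} (hε : Ov N χ ε) (h : SameBlock M (ε : N → ℂ) (ε' : N → ℂ)) :
    ∃ ψ ∈ B, Ov N ψ ε' := by
  have hMp := isPrime_of_isPModular hM
  rw [← cf_ne_zero_iff]
  intro h0
  have h1 := cf_sub_mem hM N (isUnion_of_isPBlock hMp hB) h
  rw [h0, sub_zero] at h1
  exact cf_not_mem hM N hc hB hχ hε h1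

end

end Cfsg.Agent.H666.Clif
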