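import Cfsg.Agent.H666.Clif.Exc
import Cfsg.Agent.H120.GLB.Ctx
import Cfsg.Agent.H809.GLB.Trn
import Cfsg.Agent.H111.GLB.E1
import Cfsg.Agent.H623.GLn.D4F

/-!
# S4536: the block rank of `SL_n(F)`, from the two exceptional facts (E2) and (P5)
-/

set_option autoImplicit false
set_option linter.unusedSectionVars false

open Cfsg
open scoped ComplexConjugate MatrixGroups

namespace Cfsg.Agent.H666.Clif

open Cfsg.Agent.H577.GLB Cfsg.Agent.H577.GLB.Std Cfsg.Agent.H577.GLB.Real Cfsg.Agent.H112.GLB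
open Cfsg.Agent.H657 Cfsg.Agent.H608.BlockRank Cfsg.Agent.Blocks.Basic Cfsg.Agent.Blocks.Local
open Cfsg.Agent.H614.GLn Cfsg.Agent.H624.Sl

universe u

variable {F : Type u} [Field F] [Finite F] {K : Type u} [Field K] [Algebra F K] {θ : K →*₀ ℂ} {N M : ℕ} [NeZero M]
  {p n : ℕ} {𝔐 : Ideal AlgInt} {V : ValuationSubring ℂ}

/-- (E2), (P5) as hypotheses -/
theorem slS_of (hctx : Ctx F θ N M) (hpF : p ≠ ringChar F) (h𝔐 : IsPModular p 𝔐) (hn : n ≤ N) (hn0 : 0 < n)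
    (hE2 : p = 2 → ∀ (t₀ : LabZ (Nat.card F) M n n), POnly M 2 t₀.t → ∀ δ₀ : ZMod M,
      OnlyOn (Nat.card F) M δ₀ t₀.t → Std.bsz (t₀.t δ₀) = 4 → ∀ χ : IrrCharacter (GL (Fin n) F),
      IsLab θ M n n χ t₀ → ∀ D : Subgroup (GL (Fin n) F),
      IsDefectGroup 2 𝔐 (blockOf 𝔐 (χ : GL (Fin n) F → ℂ)) D → ∀ s : ℕ,
      SectionalPRankLE 2 s (D ⊓ slS F n : Subgroup (GL (Fin n) F)) → 4 ≤ s)
    (hP5 : p = 2 → ∀ {V : ValuationSubring ℂ}, Above 𝔐 V → ((Nat.card F : ℕ) : ZMod p) = 1 →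
      ∀ (t₀ : LabZ (Nat.card F) M n n), POnly M p t₀.t → ∀ δ₀ : ZMod M, OnlyOn (Nat.card F) M δ₀ t₀.t →
      2 ≤ Std.bsz (t₀.t δ₀) → ∀ O : IBr V (GL (Fin n) F) → Finset (IBr V (pKer (slS F n) p)),
      (∀ i ∈ ibrUnder V (famSet θ p t₀), IsRes p (pKer (slS F n) p) i (O i)) →
      Fintype.card (Nat.Partition (Std.bsz (t₀.t δ₀) - 1)) ≤
        Nat.card {i : IBr V (GL (Fin n) F) // i ∈ ibrUnder V (famSet θ p t₀) ∧ (O i).card = 1})
    (B : Set (IrrCharacter (slS F n))) (hB : IsPBlock 𝔐 B) (D : Subgroup (slS F n))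
    (hD : IsDefectGroup p 𝔐 B D) (s : ℕ) (hs : SectionalPRankLE p s D) : blockRank p B ≤ p ^ s := by
  have := isPrime_of_isPModular h𝔐
  have hN : 1 ≤ N := hn0.trans_le hn
  have hlab := isLab_bij hctx hn (le_refl n)
  refine blockRank_le_slS hctx hpF h𝔐 hn hn0 hlab
    (fun {B} hB {χ} hχ {t} ht ht' a ha => H623.GLn.exists_chain hctx hpF h𝔐 hn (le_refl n) hB hχ ht ht' ha)
    (fun {B} hB {χ} hχ {t} ht ht' D hD => H623.GLn.exists_elab hctx hpF h𝔐 hn (le_refl n) hB hχ ht ht' D hD)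
    ?_ hB hD hs
  intro B hB B' hB' hcov χ hχ t ht ht' hp2 hq δ₀ h₁ hw D' hD' s hs
  obtain ⟨V, hV⟩ := exists_above h𝔐
  have hBb : B = blockOf 𝔐 (χ : GL (Fin n) F → ℂ) := isPBlock_eq_blockOf hB hχ
  refine exc_slS hctx hpF h𝔐 hV hn hn0 (le_refl n) hB hB' hcov hχ ht ht' hp2 hq δ₀ h₁ hw
    (fun a ha => H623.GLn.exists_chain hctx hpF h𝔐 hn (le_refl n) hB hχ ht ht' ha)
    (fun D hD => H623.GLn.exists_elab hctx hpF h𝔐 hn (le_refl n) hB hχ ht ht' D hD) ?_ ?_ ?_ D' hD' hs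
  · intro hw2 D hD
    subst hp2
    rw [hBb] at hD
    refine H111.GLB.not_isCyclic_two_of hctx hpF h𝔐 hn (le_refl n) hlab t ht' δ₀ h₁ hw2 χ ht ?_ ?_ ?_ D hD
    · intro ψ t' h2 hf
      rw [← hBb]
      exact sameBlock_of_fam hctx hpF h𝔐 hq hn (le_refl n) hB hχ ht h2 hf
    · intro l hl
      obtain ⟨α, hα⟩ := exists_dch hn0 l hl
      obtain ⟨a, ha, ha'⟩ := exists_linH hctx hN α
      exact ⟨a, ha, by rw [ha', hα]⟩
    · intro a ha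
      rw [orderOf_dch hn0, orderOf_linH hctx hN ha]
  · intro hw4 D hD s hs
    subst hp2
    rw [hBb] at hD
    exact hE2 rfl t ht' δ₀ h₁ hw4 χ ht D hD s hs
  · intro O hO
    exact hP5 hp2 hV hq t ht' δ₀ h₁ (by omega) O hO

end Cfsg.Agent.H666.Clif
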