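import Cfsg.Agent.S4438
import Cfsg.Agent.H666.Clif.Desc

/-!
# Defect groups and sectional ranks in a normal subgroup with cyclic quotient
-/

set_option autoImplicit false
set_option linter.unusedSectionVars false

open Cfsg
open Cfsg.Agent.H577.GLB Cfsg.Agent.Blocks.Basic Cfsg.Agent.Blocks.Local

namespace Cfsg.Agent.H666.Clif

universe u

section

variable {G : Type u} [Group G] {p : ℕ}

/-- Sections of a group of bounded sectional rank. -/
theorem card_le_of_section {D : Type*} [Group D] [Finite D] {s r : ℕ} (hp : 1 < p)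
    (hs : SectionalPRankLE p s D) {H : Subgroup D} {E : Type*} [Group E] (f : H →* E)
    (hf : Function.Surjective f) (hab : ∀ x y : E, x * y = y * x) (hexp : ∀ x : E, x ^ p = 1)
    (hc : p ^ r ≤ Nat.card E) : r ≤ s := by
  have h1 := hs H f.ker
  let e : H ⧸ f.ker ≃* E := QuotientGroup.quotientKerEquivOfSurjective f hf
  have h2 := h1 ⊤ ⟨⟨fun x y => by
    apply Subtype.ext
    apply e.injective
    simp only [Subgroup.coe_mul, map_mul]
    exact hab _ _⟩⟩ (fun a _ => by
    apply e.injective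
    rw [map_pow, map_one]
    exact hexp _)
  rw [Subgroup.card_top, Nat.card_congr e.toEquiv] at h2
  exact (Nat.pow_le_pow_iff_right hp).1 (hc.trans h2)

/-- Elementary abelian subgroups of a group of bounded sectional rank. -/
theorem card_le_of_elab {D : Type*} [Group D] [Finite D] {s r : ℕ} (hp : 1 < p)
    (hs : SectionalPRankLE p s D) (A : Subgroup D) (hab : ∀ x ∈ A, ∀ y ∈ A, x * y = y * x)
    (hexp : ∀ x ∈ A, x ^ p = 1) (hc : p ^ r ≤ Nat.card A) : r ≤ s :=
  card_le_of_section hp hs (H := A) (MonoidHom.id A) Function.surjective_id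
    (fun x y => Subtype.ext (hab x x.2 y y.2)) (fun x => Subtype.ext (hexp x x.2)) hc

end

section

variable {p : ℕ} {M : Ideal AlgInt} {G : Type u} [Group G] [Finite G]

/-- The defect group of a covering block can be chosen to meet `S` in the given defect group. -/
theorem exists_defect (hM : IsPModular p M) (S : Subgroup G) [S.Normal] {B : Set (IrrCharacter G)}
    (hB : IsPBlock M B) {B' : Set (IrrCharacter S)} (hB' : IsPBlock M B') (hcov : Cov S B B')
    {D : Subgroup S} (hD : IsDefectGroup p M B' D) :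
    ∃ P : Subgroup G, IsDefectGroup p M B P ∧ P ⊓ S = D.map S.subtype := by
  classical
  have := Fintype.ofFinite G
  have := Fintype.ofFinite S
  have : Fact p.Prime := ⟨hM.1⟩
  obtain ⟨χ, hχ, η, hη, hne⟩ := hcov
  refine Cfsg.Agent.S4438.result p M hM S B' hB' (D.map S.subtype) ?_ ?_ B hB
    ⟨χ, hχ, η, hη, (ov_iff S χ η).1 ((ov_iff_cov S χ η).2 hne)⟩
  · rintro _ ⟨x, -, rfl⟩
    exact x.2
  · have h1 : (D.map S.subtype).subgroupOf S = D :=
      Subgroup.comap_map_eq_self_of_injective S.subtype_injective D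
    rw [h1]
    exact hD

/-- The subgroups of `P ⊓ S`, as subgroups of `D`. -/
theorem exists_pull {S : Subgroup G} {D : Subgroup S} {P : Subgroup G} (h : P ⊓ S = D.map S.subtype)
    (A : Subgroup G) (hA : A ≤ P) (hAS : A ≤ S) :
    ∃ A' : Subgroup D, Nonempty (A' ≃* A) ∧ ∀ x : A', ((x : D) : S).1 ∈ A := by
  have h1 : A ≤ D.map S.subtype := h ▸ le_inf hA hAS
  have hf : Function.Injective (S.subtype.comp D.subtype) :=
    S.subtype_injective.comp D.subtype_injective
  refine ⟨A.comap (S.subtype.comp D.subtype), ⟨?_⟩, fun x => x.2⟩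
  refine MulEquiv.ofBijective ((S.subtype.comp D.subtype).subgroupComap A) ⟨?_, ?_⟩
  · intro x y hxy
    apply Subtype.ext
    apply hf
    exact congrArg (fun z : A => (z : G)) hxy
  · rintro ⟨y, hy⟩
    obtain ⟨z, hz, hzy⟩ := h1 hy
    refine ⟨⟨⟨z, hz⟩, ?_⟩, ?_⟩
    · change S.subtype z ∈ A
      rw [hzy]
      exact hy
    · exact Subtype.ext hzy

/-- The rank lemma. -/
theorem rank_le (hM : IsPModular p M) (S : Subgroup G) [S.Normal] (hcyc : IsCyclic (G ⧸ S))
    {B : Set (IrrCharacter G)} (hB : IsPBlock M B) {B' : Set (IrrCharacter S)} (hB' : IsPBlock M B')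
    (hcov : Cov S B B') {D : Subgroup S} (hD : IsDefectGroup p M B' D) {s W : ℕ}
    (hs : SectionalPRankLE p s D)
    (hA : ∀ P : Subgroup G, IsDefectGroup p M B P → ∃ A : Subgroup G, A ≤ P ∧
      (∀ x ∈ A, ∀ y ∈ A, x * y = y * x) ∧ (∀ x ∈ A, x ^ p = 1) ∧ Nat.card A = p ^ W) :
    W ≤ s + 1 ∧ ((S.index).Coprime p → W ≤ s) := by
  classical
  have hp := hM.1
  obtain ⟨P, hP, hPS⟩ := exists_defect hM S hB hB' hcov hD
  obtain ⟨A, hAP, hab, hexp, hcard⟩ := hA P hP
  -- subgroups of `A ⊓ S`
  have key : ∀ r : ℕ, p ^ r ≤ Nat.card (A ⊓ S : Subgroup G) → r ≤ s := by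
    intro r hr
    obtain ⟨A', ⟨e⟩, -⟩ := exists_pull hPS (A ⊓ S) (inf_le_left.trans hAP) inf_le_right
    refine card_le_of_section hp.one_lt hs (H := A') e.toMonoidHom e.surjective ?_ ?_ hr
    · exact fun x y => Subtype.ext (hab x x.2.1 y y.2.1)
    · exact fun x => Subtype.ext (hexp x x.2.1)
  have hidx : Nat.card (A ⊓ S : Subgroup G) * S.relIndex A = p ^ W := by
    rw [← hcard]
    have h1 := Subgroup.card_mul_index (S.subgroupOf A)
    rw [← h1]
    congr 1
    rw [← Subgroup.inf_subgroupOf_left]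
    exact (Nat.card_congr (Subgroup.subgroupOfEquivOfLe (inf_le_left : A ⊓ S ≤ A)).toEquiv).symm
  have hAcyc : IsCyclic (A ⧸ S.subgroupOf A) := by
    let F : A ⧸ S.subgroupOf A →* G ⧸ S := QuotientGroup.map (S.subgroupOf A) S A.subtype (fun x hx => hx)
    refine isCyclic_of_injective F ?_
    rw [injective_iff_map_eq_one]
    intro y hy
    obtain ⟨n, rfl⟩ := QuotientGroup.mk_surjective y
    have h1 : (QuotientGroup.mk (n : G) : G ⧸ S) = 1 := hy
    rw [QuotientGroup.eq_one_iff] at h1
    rw [QuotientGroup.eq_one_iff]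
    exact h1
  have hdvd : S.relIndex A ∣ p := by
    obtain ⟨g, hg⟩ := IsCyclic.exists_generator (α := A ⧸ S.subgroupOf A)
    have h1 : orderOf g = Nat.card (A ⧸ S.subgroupOf A) := orderOf_eq_card_of_forall_mem_zpowers hg
    rw [Subgroup.relIndex, Subgroup.index, ← h1]
    refine orderOf_dvd_of_pow_eq_one ?_
    obtain ⟨n, rfl⟩ := QuotientGroup.mk_surjective g
    rw [← QuotientGroup.mk_pow]
    have h2 : n ^ p = 1 := Subtype.ext (hexp n n.2)
    rw [h2]
    rfl
  constructor
  · rcases Nat.eq_zero_or_pos W with h0 | h0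
    · omega
    · have h1 : W - 1 ≤ s := by
        apply key
        have h2 : p ^ (W - 1) * p = p ^ W := by rw [← pow_succ, Nat.sub_add_cancel h0]
        rw [← hidx] at h2
        have h3 : S.relIndex A ≤ p := Nat.le_of_dvd hp.pos hdvd
        refine Nat.le_of_mul_le_mul_right (c := p) ?_ hp.pos
        rw [h2]
        exact Nat.mul_le_mul_left _ h3
      omega
  · intro hi
    apply key
    have h1 : S.relIndex A = 1 := by
      have h2 : S.relIndex A ∣ S.index := Subgroup.relIndex_dvd_index_of_normal S A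
      exact Nat.eq_one_of_dvd_coprimes hi h2 hdvd
    rw [← hidx, h1, mul_one]

end

end Cfsg.Agent.H666.Clif
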