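import Cfsg.Agent.H610.GLB.Prod

/-!
# The strong stabiliser is cyclic
-/

set_option autoImplicit false

namespace Cfsg.Agent.H666.Clif

open Cfsg.Agent.H577.GLB.Std Cfsg.Agent.H614 Cfsg.Agent.H610.GLB

variable {Q : ℤ} {M : ℕ} [NeZero M] {p m n : ℕ}

/-- the strong stabiliser as a subgroup -/
def sfG (hQ : IsUnit (Q : ZMod M)) (t0 : LabZ Q M m n) (h0 : POnly M p t0.t) : AddSubgroup (ZMod M) where
  carrier := {a | SF Q M p t0 a}
  zero_mem' := ⟨(stA t0 h0).zero_mem, fun δ _ _ => ⟨0, by simp⟩⟩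
  add_mem' := by
    intro a b ha hb
    refine ⟨(stA t0 h0).add_mem ha.1 hb.1, fun δ hδ hw => ?_⟩
    obtain ⟨j, hj⟩ := ha.2 δ hδ hw
    obtain ⟨k, hk⟩ := hb.2 δ hδ hw
    have hb1 : (Q : ZMod M) * b = b := stA_fix (h0 := h0) hb.1
    have hb2 : (Q : ZMod M) ^ orderOf (Q : ZMod p) * b = b := pow_fix hb1 _
    exact ⟨j + k, by rw [pow_add, mul_assoc, ← hk, mul_add, ← hj, pow_fix hb2, add_assoc]⟩
  neg_mem' := by
    intro a ha
    refine ⟨(stA t0 h0).neg_mem ha.1, fun δ hδ hw => ?_⟩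
    obtain ⟨j, hj⟩ := ha.2 δ hδ hw
    have ha1 : (Q : ZMod M) * a = a := stA_fix (h0 := h0) ha.1
    have ha2 : (Q : ZMod M) ^ orderOf (Q : ZMod p) * a = a := pow_fix ha1 _
    have hR : IsUnit ((Q : ZMod M) ^ orderOf (Q : ZMod p)) := hQ.pow _
    obtain ⟨N, hN, h⟩ := exists_pow_eq_one hR
    refine ⟨N * j - j, ?_⟩
    have h1 : ((Q : ZMod M) ^ orderOf (Q : ZMod p)) ^ (N * j - j) *
        ((Q : ZMod M) ^ orderOf (Q : ZMod p)) ^ j = 1 := by
      rw [← pow_add, Nat.sub_add_cancel (Nat.le_mul_of_pos_left _ hN), pow_mul, h, one_pow]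
    have h2 : ((Q : ZMod M) ^ orderOf (Q : ZMod p)) ^ (N * j - j) * (δ + a) = δ := by
      rw [hj, ← mul_assoc, h1, one_mul]
    rw [mul_add, pow_fix ha2] at h2
    rw [← sub_eq_add_neg, eq_comm, ← h2]
    rw [add_sub_cancel_right, h2]

theorem exists_SF_gen (hQ : IsUnit (Q : ZMod M)) (t0 : LabZ Q M m n) (h0 : POnly M p t0.t) :
    ∃ a : ZMod M, SF Q M p t0 a ∧ addOrderOf a = Nat.card {b : ZMod M // SF Q M p t0 b} := by
  obtain ⟨g, hg⟩ := IsAddCyclic.exists_generator (α := sfG hQ t0 h0)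
  refine ⟨g, g.2, ?_⟩
  rw [AddSubgroup.addOrderOf_coe]
  exact addOrderOf_eq_card_of_forall_mem_zmultiples hg

end Cfsg.Agent.H666.Clif
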