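import Cfsg.Agent.H666.Clif.Sec
import Cfsg.Agent.H666.Clif.Lin
import Cfsg.Agent.H666.Clif.SFgen
import Cfsg.Agent.H666.Clif.Rank
import Cfsg.Agent.CharDeep.PowerDegrees
import Cfsg.Agent.H577.GLB.Rank
import Cfsg.Agent.H624.Sl.LemA

/-!
# The descent from `GL_n(F)` to the kernel of the determinant
-/

set_option autoImplicit false
set_option linter.unusedSectionVars false

open Cfsg
open scoped ComplexConjugate MatrixGroups

namespace Cfsg.Agent.H666.Clif

open Cfsg.Agent.H577.GLB Cfsg.Agent.H577.GLB.Std Cfsg.Agent.H577.GLB.Real Cfsg.Agent.H112.GLB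
open Cfsg.Agent.H657 Cfsg.Agent.H608.BlockRank Cfsg.Agent.Blocks.Basic Cfsg.Agent.Blocks.Local
open Cfsg.Agent.H614.GLn Cfsg.Agent.H624.Sl

universe u

section

variable {F : Type u} [Field F] [Finite F] {K : Type u} [Field K] [Algebra F K] {θ : K →*₀ ℂ} {N M : ℕ} [NeZero M]
  {p n : ℕ}

/-- the labels of the linear characters of `GL_n(F)` -/
noncomputable def glLin (hctx : Ctx F θ N M) (hp : p.Prime) (hpF : p ≠ ringChar F) (hn : n ≤ N) (hn0 : 0 < n) :
    LinData (GLrz hctx hp hpF hn) (slS F n) where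
  ln a := dch n (linH F θ M a)
  triv a _ x hx := by
    have h1 : Matrix.GeneralLinearGroup.det x = 1 := hx
    rw [dch_apply, h1, map_one]
  surj l hl := by
    obtain ⟨α, hα⟩ := exists_dch hn0 l hl
    obtain ⟨a, ha, haα⟩ := exists_linH hctx (hn0.trans_le hn) α
    exact ⟨a, ha, by rw [haα, hα]⟩
  ord a ha := by rw [orderOf_dch hn0, orderOf_linH hctx (hn0.trans_le hn) ha]
  tw a ha x hx := by
    refine (H112.GLB.om_twist hctx hn a ha x hx).trans ?_
    congr 1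

end

section

variable {G : Type u} [Group G] [Finite G] {p : ℕ} {𝔐 : Ideal AlgInt}

/-- Every block of a normal subgroup is covered by a block. -/
theorem exists_cov (h𝔐 : IsPModular p 𝔐) (S : Subgroup G) [S.Normal] {B' : Set (IrrCharacter S)}
    (hB' : IsPBlock 𝔐 B') : ∃ B : Set (IrrCharacter G), IsPBlock 𝔐 B ∧ Cov S B B' := by
  classical
  have := Fintype.ofFinite G
  have := Fintype.ofFinite S
  have hMp := isPrime_of_isPModular h𝔐
  obtain ⟨η, rfl⟩ := hB'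
  obtain ⟨χ, hχ, hne⟩ := CharDeep.PowerDegrees.exists_irr_over S η.2
  refine ⟨blockOf 𝔐 χ, ⟨⟨χ, hχ⟩, rfl⟩, ⟨χ, hχ⟩, Blocks.Induced.sameBlock_refl hMp _, η,
    Blocks.Induced.sameBlock_refl hMp _, ?_⟩
  exact (ov_iff_cov S ⟨χ, hχ⟩ η).1 ((ov_iff S ⟨χ, hχ⟩ η).2 hne)

end

section

variable {F : Type u} [Field F] [Finite F] {K : Type u} [Field K] [Algebra F K] {θ : K →*₀ ℂ} {N M : ℕ} [NeZero M]
  {p n : ℕ} {𝔐 : Ideal AlgInt}

/-- **The descent for `GL_n(F)`**, from the chain of subsections, the elementary abelian subgroups of the defect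
groups and the exceptional case. -/
theorem blockRank_le_slS (hctx : Ctx F θ N M) (hpF : p ≠ ringChar F) (h𝔐 : IsPModular p 𝔐) [𝔐.IsPrime]
    (hn : n ≤ N) (hn0 : 0 < n) (hlab : LabBij F θ M n n)
    (hchain : ∀ {B : Set (IrrCharacter (GL (Fin n) F))}, IsPBlock 𝔐 B → ∀ {χ : IrrCharacter (GL (Fin n) F)},
      χ ∈ B → ∀ {t : LabZ (Nat.card F) M n n}, IsLab θ M n n χ t → POnly M p t.t →
      ∀ a : ZMod M, SF (Nat.card F) M p t a → Chain p 𝔐 (linH F θ M a) n B)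
    (helab : ∀ {B : Set (IrrCharacter (GL (Fin n) F))}, IsPBlock 𝔐 B → ∀ {χ : IrrCharacter (GL (Fin n) F)},
      χ ∈ B → ∀ {t : LabZ (Nat.card F) M n n}, IsLab θ M n n χ t → POnly M p t.t →
      ∀ D : Subgroup (GL (Fin n) F), IsDefectGroup p 𝔐 B D → ∃ A : Subgroup (GL (Fin n) F), A ≤ D ∧
        (∀ x ∈ A, ∀ y ∈ A, x * y = y * x) ∧ (∀ x ∈ A, x ^ p = 1) ∧
        Nat.card A = p ^ totW (Nat.card F) M p t.t)
    (hexc : ∀ {B : Set (IrrCharacter (GL (Fin n) F))}, IsPBlock 𝔐 B →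
      ∀ {B' : Set (IrrCharacter (slS F n))}, IsPBlock 𝔐 B' → Cov (slS F n) B B' →
      ∀ {χ : IrrCharacter (GL (Fin n) F)}, χ ∈ B → ∀ {t : LabZ (Nat.card F) M n n}, IsLab θ M n n χ t →
      POnly M p t.t → p = 2 → ((Nat.card F : ℕ) : ZMod p) = 1 → ∀ δ₀ : ZMod M, OnlyOn (Nat.card F) M δ₀ t.t →
      (Std.bsz (t.t δ₀) = 2 ∨ Std.bsz (t.t δ₀) = 4 ∨ Std.bsz (t.t δ₀) = 8) →
      ∀ D' : Subgroup (slS F n), IsDefectGroup p 𝔐 B' D' → ∀ s : ℕ, SectionalPRankLE p s D' →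
      blockRank p B' ≤ p ^ s)
    {B' : Set (IrrCharacter (slS F n))} (hB' : IsPBlock 𝔐 B') {D' : Subgroup (slS F n)}
    (hD' : IsDefectGroup p 𝔐 B' D') {s : ℕ} (hs : SectionalPRankLE p s D') : blockRank p B' ≤ p ^ s := by
  classical
  have hp := h𝔐.1
  obtain ⟨V, hV⟩ := exists_above h𝔐
  obtain ⟨B, hB, hcov⟩ := exists_cov h𝔐 (slS F n) hB'
  obtain ⟨χ, hχ, t, ht, ht'⟩ := exists_pOnly_mem_lab hctx hpF h𝔐 hn (le_refl n) hlab hB
  have hcyc : IsCyclic (GL (Fin n) F ⧸ slS F n) := isCyclic_quot_SK hn0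
  have hQ : IsUnit (((Nat.card F : ℕ) : ℤ) : ZMod M) := (GLrz hctx hp hpF hn).unit
  have hgen := exists_SF_gen hQ t ht'
  have hq2 : 2 ≤ Nat.card F := Finite.one_lt_card
  have hcop : (Nat.card F).Coprime p := by
    obtain ⟨r, hr⟩ := CharP.exists F
    have hrp : r.Prime := by
      rcases CharP.char_is_prime_or_zero F r with h | h
      · exact h
      · exfalso
        subst h
        have : CharZero F := CharP.charP_to_charZero F
        exact not_finite F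
    have : Fact r.Prime := ⟨hrp⟩
    have := Fintype.ofFinite F
    obtain ⟨k, -, hk⟩ := FiniteField.card F r
    rw [Nat.card_eq_fintype_card, hk]
    refine Nat.Coprime.pow_left _ ((Nat.coprime_primes hrp hp).2 ?_)
    intro hrp'
    apply hpF
    rw [← hrp']
    exact (ringChar.eq F r).symm
  have hQp : IsUnit (((Nat.card F : ℕ) : ℤ) : ZMod p) := by
    rw [Int.cast_natCast, ZMod.isUnit_iff_coprime]
    exact hcop
  have hNz : ∀ a : ZMod M, SF (Nat.card F) M p t a → ∃ x : GL (Fin n) F,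
      Nz 𝔐 ((glLin hctx hp hpF hn hn0).ln a) B x := by
    intro a ha
    refine lemmaA h𝔐 (α := linH F θ M a) ?_ (hchain hB hχ ht ht' a ha)
    have hN : 1 ≤ N := hn0.trans_le hn
    refine ⟨addOrderOf a, addOrderOf_pos a, ?_, ?_⟩
    · have hpa : (addOrderOf a).Coprime p := ha.1.2.1
      exact fun h => hp.one_lt.ne' (Nat.eq_one_of_dvd_coprimes hpa h (dvd_refl p))
    · intro y
      rw [← orderOf_linH hctx hN ha.1.1, ← MonoidHom.pow_apply, pow_orderOf_eq_one]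
      rfl
  have hW := H577.GLB.Rank.weight_le h𝔐 hB hB' hcov D' hD' hs
    (fun D hD => helab hB hχ ht ht' D hD)
  by_cases hdvd : p ∣ Nat.card F - 1
  · have h1 : ((Nat.card F : ℕ) : ZMod p) = 1 := by
      have h2 : ((Nat.card F - 1 : ℕ) : ZMod p) = 0 := (ZMod.natCast_eq_zero_iff _ _).2 hdvd
      rw [Nat.cast_sub (by omega), Nat.cast_one, sub_eq_zero] at h2
      exact h2
    have h1' : (((Nat.card F : ℕ) : ℤ) : ZMod p) = 1 := by rw [Int.cast_natCast, h1]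
    by_cases hex : p = 2 ∧ ∃ δ0, (∀ δ, 0 < Std.bsz (t.t δ) → SameZ (Nat.card F) M δ0 δ) ∧
      (Std.bsz (t.t δ0) = 2 ∨ Std.bsz (t.t δ0) = 4 ∨ Std.bsz (t.t δ0) = 8)
    · obtain ⟨hp2, δ0, h2, h3⟩ := hex
      exact hexc hB hB' hcov hχ ht ht' hp2 h1 δ0 h2 h3 D' hD' s hs
    · have h2 := (glLin hctx hp hpF hn hn0).mul_blockRank_le_of_one h𝔐 hV hcyc h1' hn0 (le_refl n) hlab hB hB'
        hcov hχ ht ht' hgen hNz hex
      have h3 : p * blockRank p B' ≤ p * p ^ s := by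
        rw [← pow_succ']
        exact h2.trans (Nat.pow_le_pow_right hp.pos hW.1)
      exact Nat.le_of_mul_le_mul_left h3 hp.pos
  · have hidx : (slS F n).index.Coprime p := by
      have h2 : (slS F n).index = Nat.card Fˣ := index_SK hn0
      rw [h2, Nat.card_units]
      exact ((Nat.Prime.coprime_iff_not_dvd hp).2 hdvd).symm
    have h2 := (glLin hctx hp hpF hn hn0).blockRank_le_of_coprime h𝔐 hV hcyc hidx hQp (le_refl n) hlab hB hB'
      hcov hχ ht ht' hgen hNz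
    exact h2.trans (Nat.pow_le_pow_right hp.pos (hW.2 hdvd))

end

end Cfsg.Agent.H666.Clif
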