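import Cfsg.Agent.H666.Clif.Conj
import Cfsg.Agent.H112.Clif.Brauer

/-!
# Final forms (P2, P3, (2c)) of the Clifford theory of Brauer characters and blocks
-/

set_option autoImplicit false

open Cfsg IsLocalRing Module
open scoped ComplexConjugate
open Cfsg.Agent.H657 Cfsg.Agent.H577.GLB

namespace Cfsg.Agent.H666.Clif

universe u

variable {V : ValuationSubring ℂ} {G : Type u} [Group G] [Finite G] {p : ℕ} {M : Ideal AlgInt}

/-- P2: the rank of a block of a normal subgroup of `p`-power index with cyclic quotient. -/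
theorem blockRank_le_sum (hM : IsPModular p M) (hV : Above M V) (N : Subgroup G) [N.Normal]
    (hc : IsCyclic (G ⧸ N)) {a : ℕ} (hi : Nat.card (G ⧸ N) = p ^ a) {B : Set (IrrCharacter G)}
    (hB : IsPBlock M B) {B' : Set (IrrCharacter N)} (hB' : IsPBlock M B') (hcov : Cov N B B')
    (O : IBr V G → Finset (IBr V N)) (hO : ∀ i ∈ ibrUnder V B, IsRes p N i (O i))
    [Fintype (ibrUnder V B)] :
    blockRank p B' ≤ ∑ i : ibrUnder V B, (O i).card :=
  blockRank_le_sum_of hM hV N hi (H112.Clif.exists_over hM hV N hc) hB hB' hcov O hO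

/-- P3: if the restriction of `i` has `k` constituents then some `χ` in the block is fixed by a linear character
of order `k` of `G / N`. -/
theorem exists_fixed (hM : IsPModular p M) (hV : Above M V) (N : Subgroup G) [N.Normal]
    (hc : IsCyclic (G ⧸ N)) {a : ℕ} (hi : Nat.card (G ⧸ N) = p ^ a) {B : Set (IrrCharacter G)}
    (hB : IsPBlock M B) (i : IBr V G) (hiB : i ∈ ibrUnder V B) (O : Finset (IBr V N)) (hO : IsRes p N i O) :
    ∃ (l : G →* ℂˣ) (χ : IrrCharacter G), χ ∈ B ∧ (∀ x ∈ N, l x = 1) ∧ orderOf l = O.card ∧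
      ∀ g, (l g : ℂ) * (χ : G → ℂ) g = (χ : G → ℂ) g :=
  exists_fixed_of hM hV N hc hi (H112.Clif.clifford_cyclic hM hV N hc) hB i hiB O hO

/-- (2c), any index. -/
theorem card_conjs_mul_blockRank_le (hM : IsPModular p M) (hV : Above M V) (N : Subgroup G) [N.Normal]
    (hc : IsCyclic (G ⧸ N)) {B : Set (IrrCharacter G)}
    (hB : IsPBlock M B) {B' : Set (IrrCharacter N)} (hB' : IsPBlock M B') (hcov : Cov N B B')
    (O : IBr V G → Finset (IBr V N)) (hO : ∀ i ∈ ibrUnder V B, IsRes p N i (O i))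
    [Fintype (ibrUnder V B)] :
    Set.ncard (conjs N B') * blockRank p B' ≤ ∑ i : ibrUnder V B, (O i).card :=
  card_conj_mul_blockRank_le hM hV N hc (H112.Clif.exists_over hM hV N hc) hB hB' hcov O hO

theorem blockRank_le_sum_gen (hM : IsPModular p M) (hV : Above M V) (N : Subgroup G) [N.Normal]
    (hc : IsCyclic (G ⧸ N)) {B : Set (IrrCharacter G)}
    (hB : IsPBlock M B) {B' : Set (IrrCharacter N)} (hB' : IsPBlock M B') (hcov : Cov N B B')
    (O : IBr V G → Finset (IBr V N)) (hO : ∀ i ∈ ibrUnder V B, IsRes p N i (O i))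
    [Fintype (ibrUnder V B)] :
    blockRank p B' ≤ ∑ i : ibrUnder V B, (O i).card := by
  refine le_trans ?_ (card_conjs_mul_blockRank_le hM hV N hc hB hB' hcov O hO)
  have := Characters.Core.finite_irr (G := N)
  have h1 : 0 < Set.ncard (conjs N B') := by
    rw [Set.ncard_pos (Set.toFinite _)]
    refine ⟨B', 1, ?_⟩
    ext χ
    constructor
    · intro h
      exact ⟨χ, h, Blocks.Covering.conjIrr_one N χ⟩
    · rintro ⟨η, hη, rfl⟩
      rwa [Blocks.Covering.conjIrr_one]
  exact Nat.le_mul_of_pos_left _ h1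

end Cfsg.Agent.H666.Clif
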