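import Cfsg.Agent.H112.GLB.Main
import Cfsg.Agent.H610.GLB.DE
import Cfsg.Agent.H157.GLB.DA
import Cfsg.Agent.H624.Sl.Tw
import Cfsg.Agent.H666.Clif.Desc

/-!
# The descent inequality in terms of labels (sections 2 and 3 of `tools/plans/S4536_577.md`)

Abstract form (for `GL_n(q)` and `GU_n(q)`): `R : Rz Q M p n G` realizes the standard model in the class functions of
`G`, `S` is normal in `G` with cyclic quotient, and the linear characters of `G / S` are labelled by the `a : ZMod M`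
with `TorZ Q M 1 a`.
-/

set_option autoImplicit false
set_option linter.unusedSectionVars false

open Cfsg
open scoped ComplexConjugate

namespace Cfsg.Agent.H666.Clif

open Cfsg.Agent.H577.GLB Cfsg.Agent.H577.GLB.Std Cfsg.Agent.H614 Cfsg.Agent.H112.GLB
open Cfsg.Agent.H657 Cfsg.Agent.H608.BlockRank Cfsg.Agent.Blocks.Basic Cfsg.Agent.Blocks.Local

universe u

section

variable {Q : ℤ} {M : ℕ} [NeZero M] {p n : ℕ} {G : Type u} [Group G] [Finite G]

/-- the linear characters of `G / S` are labelled by the `a` with `TorZ Q M 1 a` -/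
structure LinData (R : Rz Q M p n G) (S : Subgroup G) where
  /-- the linear character with label `a` -/
  ln : ZMod M → (G →* ℂˣ)
  triv : ∀ a, TorZ Q M 1 a → ∀ x ∈ S, ln a x = 1
  surj : ∀ l : G →* ℂˣ, (∀ x ∈ S, l x = 1) → ∃ a, TorZ Q M 1 a ∧ ln a = l
  ord : ∀ a, TorZ Q M 1 a → orderOf (ln a) = addOrderOf a
  tw : ∀ a, TorZ Q M 1 a → ∀ x ∈ Hom Q M n,
    R.om (twist Q M a x) = (fun g => (ln a g : ℂ)) * R.om x

namespace LinData

variable {R : Rz Q M p n G} {S : Subgroup G} (L : LinData R S) {𝔐 : Ideal AlgInt} {V : ValuationSubring ℂ}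

include L

/-- the label of a linear character of `G / S` -/
noncomputable def lab (l : APrime S p) : ZMod M := (L.surj l.1 l.2.1).choose

theorem lab_spec (l : APrime S p) : TorZ Q M 1 (L.lab l) ∧ L.ln (L.lab l) = l.1 :=
  (L.surj l.1 l.2.1).choose_spec

theorem lab_pReg (l : APrime S p) : PReg M p (L.lab l) := by
  have h := l.2.2
  rw [← (L.lab_spec l).2, L.ord _ (L.lab_spec l).1] at h
  exact h

theorem lab_injective : Function.Injective L.lab := by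
  intro l l' h
  apply Subtype.ext
  rw [← (L.lab_spec l).2, ← (L.lab_spec l').2, h]

open Classical in
/-- the fixed points of the linear characters of order prime to `p` -/
theorem sum_fix_le (h𝔐 : IsPModular p 𝔐) (hV : Above 𝔐 V) {m : ℕ} (hm : n ≤ m) (hlab : R.Bij m)
    {B : Set (IrrCharacter G)} (hB : IsPBlock 𝔐 B) {χ : IrrCharacter G} (hχ : χ ∈ B) {t : LabZ Q M m n}
    (ht : R.IsLb χ t) [Fintype (APrime S p)] :
    ∑ l : APrime S p, Nat.card {i : IBr V G // i ∈ ibrUnder V B ∧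
        (fun g => ((l : G →* ℂˣ) g : ℂ) * phi p i g) = phi p i} ≤
      ∑ a ∈ Finset.univ.filter (fun a : ZMod M => Stab Q M p t a), nfix Q M p t a := by
  have hMp := isPrime_of_isPModular h𝔐
  set f : APrime S p → ℕ := fun l => Nat.card {i : IBr V G // i ∈ ibrUnder V B ∧
        (fun g => ((l : G →* ℂˣ) g : ℂ) * phi p i g) = phi p i} with hf
  have h1 : ∀ l, f l ≤ nfix Q M p t (L.lab l) := by
    intro l
    refine R.card_fixed_le' h𝔐 hV hm hlab hB hχ ht (L.lab l) (L.lab_spec l).1 (L.lab_pReg l) l.1 ?_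
    intro x hx
    rw [L.tw _ (L.lab_spec l).1 x hx, (L.lab_spec l).2]
  have h2 : ∀ l, f l ≠ 0 → Stab Q M p t (L.lab l) := by
    intro l hl
    have hne : Nonempty {i : IBr V G // i ∈ ibrUnder V B ∧
        (fun g => ((l : G →* ℂˣ) g : ℂ) * phi p i g) = phi p i} := by
      by_contra h
      rw [not_nonempty_iff] at h
      exact hl Nat.card_of_isEmpty
    obtain ⟨i, hi, hfix⟩ := hne
    have h3 : i ∈ ibrUnder V (tl l.1 '' B) :=
      ibrUnder_tl h𝔐 hV hB (fun g => (congrFun hfix g).symm) hi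
    have h4 : tl l.1 '' B = B := eq_of_ibrUnder h𝔐 hV (isPBlock_tl hMp l.1 hB) hB h3 hi
    have h5 : tl l.1 χ ∈ B := h4 ▸ ⟨χ, hχ, rfl⟩
    refine R.stab_of_block (χ := χ) (χ' := tl l.1 χ) (B := B) (l := fun g => (l.1 g : ℂ))
      (fun χ hχ χ' hχ' t t' ht ht' => R.sameFam_of_mem h𝔐 hm hlab hB hχ hχ' ht ht') hχ h5 ht _
      (L.lab_spec l).1 (L.lab_pReg l) ?_ ?_
    · intro x hx
      rw [L.tw _ (L.lab_spec l).1 x hx, (L.lab_spec l).2]
    · rfl
  calc ∑ l : APrime S p, f l = ∑ l ∈ Finset.univ.filter (fun l => f l ≠ 0), f l :=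
        (Finset.sum_filter_ne_zero _).symm
    _ ≤ ∑ l ∈ Finset.univ.filter (fun l => f l ≠ 0), nfix Q M p t (L.lab l) :=
        Finset.sum_le_sum fun l _ => h1 l
    _ = ∑ a ∈ (Finset.univ.filter (fun l => f l ≠ 0)).image L.lab, nfix Q M p t a :=
        (Finset.sum_image fun l _ l' _ h => L.lab_injective h).symm
    _ ≤ ∑ a ∈ Finset.univ.filter (fun a : ZMod M => Stab Q M p t a), nfix Q M p t a := by
        refine Finset.sum_le_sum_of_subset ?_
        intro a ha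
        obtain ⟨l, hl, rfl⟩ := Finset.mem_image.1 ha
        exact Finset.mem_filter.2 ⟨Finset.mem_univ _, h2 l (Finset.mem_filter.1 hl).2⟩

open Classical in
/-- The descent inequality in terms of labels. -/
theorem desc_SF (h𝔐 : IsPModular p 𝔐) (hV : Above 𝔐 V) [S.Normal] (hcyc : IsCyclic (G ⧸ S)) {m : ℕ}
    (hm : n ≤ m) (hlab : R.Bij m) {B : Set (IrrCharacter G)} (hB : IsPBlock 𝔐 B)
    {B' : Set (IrrCharacter S)} (hB' : IsPBlock 𝔐 B') (hcov : Cov S B B')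
    {χ : IrrCharacter G} (hχ : χ ∈ B) {t : LabZ Q M m n} (ht : R.IsLb χ t)
    (hgen : ∃ a : ZMod M, SF Q M p t a ∧
      addOrderOf a = (Finset.univ.filter fun b : ZMod M => SF Q M p t b).card)
    [𝔐.IsPrime] (hNz : ∀ a : ZMod M, SF Q M p t a → ∃ x : G, H624.Sl.Nz 𝔐 (L.ln a) B x) (k : ℕ)
    (hk : ∀ (l : G →* ℂˣ) (χ' : IrrCharacter G), χ' ∈ B → (∀ x ∈ S, l x = 1) → (∃ j : ℕ, orderOf l = p ^ j) →
      (∀ g, (l g : ℂ) * (χ' : G → ℂ) g = (χ' : G → ℂ) g) → orderOf l ≤ k) :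
    blockRank p B' * (Finset.univ.filter fun b : ZMod M => SF Q M p t b).card ≤
      k * ∑ a ∈ Finset.univ.filter (fun a : ZMod M => Stab Q M p t a), nfix Q M p t a := by
  obtain ⟨a, ha, hord⟩ := hgen
  have hta : TorZ Q M 1 a := ha.1.1
  have hpa : PReg M p a := ha.1.2.1
  obtain ⟨x, hx⟩ := hNz a ha
  have hPP : H624.Sl.PPrime p (L.ln a) := by
    refine ⟨orderOf (L.ln a), ?_, ?_, ?_⟩
    · rw [L.ord a hta]
      exact addOrderOf_pos a
    · rw [L.ord a hta]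
      exact fun h => h𝔐.1.one_lt.ne' (Nat.eq_one_of_dvd_coprimes hpa h (dvd_refl p))
    · intro g
      rw [← MonoidHom.pow_apply, pow_orderOf_eq_one]
      rfl
  have := Fintype.ofFinite (L.ln a).ker
  have := finite_APrime S p inferInstance hcyc
  have := Fintype.ofFinite (APrime S p)
  have h1 := desc_le_fix h𝔐 hV S hcyc hB hB' hcov (L.ln a) (L.triv a hta)
    (fun c hc hcc g hg => H624.Sl.stab_le h𝔐 hPP hB hx hc hcc g hg) k (by
      intro i hi Q' hQ'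
      obtain ⟨l, χ', h1, h2, h3, h4, h5⟩ := exists_fixed_pKer h𝔐 hV S hcyc hB hi hQ'
      rw [← h3] at h4 ⊢
      exact hk l χ' h1 h2 h4 h5)
  rw [L.ord a hta, hord] at h1
  exact h1.trans (Nat.mul_le_mul_left _ (L.sum_fix_le h𝔐 hV hm hlab hB hχ ht))

/-- **Section 2.** -/
theorem blockRank_le_of_coprime (h𝔐 : IsPModular p 𝔐) (hV : Above 𝔐 V) [S.Normal] (hcyc : IsCyclic (G ⧸ S))
    (hidx : (S.index).Coprime p) (hQp : IsUnit (Q : ZMod p)) {m : ℕ}
    (hm : n ≤ m) (hlab : R.Bij m) {B : Set (IrrCharacter G)} (hB : IsPBlock 𝔐 B)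
    {B' : Set (IrrCharacter S)} (hB' : IsPBlock 𝔐 B') (hcov : Cov S B B')
    {χ : IrrCharacter G} (hχ : χ ∈ B) {t : LabZ Q M m n} (ht : R.IsLb χ t) (ht' : POnly M p t.t)
    (hgen : ∃ a : ZMod M, SF Q M p t a ∧ addOrderOf a = Nat.card {b : ZMod M // SF Q M p t b})
    [𝔐.IsPrime] (hNz : ∀ a : ZMod M, SF Q M p t a → ∃ x : G, H624.Sl.Nz 𝔐 (L.ln a) B x) :
    blockRank p B' ≤ p ^ totW Q M p t.t := by
  classical
  have hcard : Nat.card {b : ZMod M // SF Q M p t b} =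
      (Finset.univ.filter fun b : ZMod M => SF Q M p t b).card := by
    rw [Nat.card_eq_fintype_card, Fintype.card_subtype]
  rw [hcard] at hgen
  have h1 := L.desc_SF h𝔐 hV hcyc hm hlab hB hB' hcov hχ ht hgen hNz 1 (by
    intro l χ' _ hl hj _
    obtain ⟨j, hj⟩ := hj
    rcases Nat.eq_zero_or_pos j with h0 | h0
    · rw [hj, h0, pow_zero]
    · exfalso
      have h2 : orderOf l ∣ S.index := by
        rw [← index_ker]
        exact Subgroup.index_dvd_of_le (fun x hx => hl x hx)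
      rw [hj] at h2
      exact h𝔐.1.one_lt.ne' (Nat.eq_one_of_dvd_coprimes hidx ((dvd_pow_self p h0.ne').trans h2) (dvd_refl p)))
  rw [one_mul] at h1
  have h2 := h1.trans (H610.GLB.sum_nfix_le h𝔐.1 R.unit hQp hm t ht')
  rw [mul_comm] at h2
  refine Nat.le_of_mul_le_mul_left h2 ?_
  obtain ⟨a, ha, -⟩ := hgen
  exact Finset.card_pos.2 ⟨a, Finset.mem_filter.2 ⟨Finset.mem_univ _, ha⟩⟩


/-- The label of a character fixed by a linear character of `G / S`. -/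
theorem fixed_label {m : ℕ} (hlab : R.Bij m) {l : G →* ℂˣ} (hl : ∀ x ∈ S, l x = 1)
    {χ : IrrCharacter G} (hfix : ∀ g, (l g : ℂ) * (χ : G → ℂ) g = (χ : G → ℂ) g) {t : LabZ Q M m n}
    (ht : R.IsLb χ t) : ∃ a : ZMod M, TorZ Q M 1 a ∧ L.ln a = l ∧ ∀ c, t.t (c + a) = t.t c := by
  obtain ⟨a, ha, hal⟩ := L.surj l hl
  refine ⟨a, ha, hal, ?_⟩
  have h1 : R.IsLb χ (shiftL t ha) := by
    refine R.isLb_shift ht ha (l := fun g => (l g : ℂ)) ?_ ?_
    · intro x hx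
      rw [L.tw a ha x hx, hal]
    · funext g
      exact (hfix g).symm
  obtain ⟨t₁, -, huniq⟩ := hlab.1 χ
  have h2 : shiftL t ha = t := (huniq _ h1).trans (huniq _ ht).symm
  intro c
  have h3 := congrFun (congrArg LabZ.t h2) (c + a)
  change t.t (c + a - a) = t.t (c + a) at h3
  rw [add_sub_cancel_right] at h3
  exact h3.symm

/-- (3b) The order of a linear character of `p`-power order fixing a member of the block divides all the
multiplicities. -/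
theorem dvd_bsz (h𝔐 : IsPModular p 𝔐) {m : ℕ} (hm : n ≤ m) (hlab : R.Bij m) {B : Set (IrrCharacter G)}
    (hB : IsPBlock 𝔐 B) {χ : IrrCharacter G} (hχ : χ ∈ B) {t : LabZ Q M m n} (ht : R.IsLb χ t)
    (ht' : POnly M p t.t) {l : G →* ℂˣ} {χ' : IrrCharacter G} (hχ' : χ' ∈ B) (hl : ∀ x ∈ S, l x = 1) {j : ℕ}
    (hj : orderOf l = p ^ j) (hfix : ∀ g, (l g : ℂ) * (χ' : G → ℂ) g = (χ' : G → ℂ) g) (δ : ZMod M) :
    p ^ j ∣ bsz (t.t δ) := by
  obtain ⟨t₁, ht₁, -⟩ := hlab.1 χ'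
  obtain ⟨a, ha, hal, hfa⟩ := L.fixed_label hlab hl hfix ht₁
  have hord : addOrderOf a = p ^ j := by rw [← L.ord a ha, hal, hj]
  by_cases hδ : PReg M p δ
  · have h1 := H157.GLB.dvd_sfun h𝔐.1 t₁.t a ⟨j, hord⟩ hfa δ
    rw [hord] at h1
    have h2 := (R.sameFam_of_mem h𝔐 hm hlab hB hχ hχ' ht ht₁ δ hδ).1
    rw [← h2, H610.GLB.sfun_eq ht' hδ] at h1
    exact h1
  · rw [ht' δ hδ]
    exact dvd_zero _

/-- There is a largest order of a linear character of `p`-power order fixing a member of the block. -/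
theorem exists_max (h𝔐 : IsPModular p 𝔐) [S.Normal] {m : ℕ} (hm : n ≤ m) (hlab : R.Bij m)
    {B : Set (IrrCharacter G)}
    (hB : IsPBlock 𝔐 B) {χ : IrrCharacter G} (hχ : χ ∈ B) {t : LabZ Q M m n} (ht : R.IsLb χ t)
    (ht' : POnly M p t.t) : ∃ j : ℕ, (∀ δ, p ^ j ∣ bsz (t.t δ)) ∧
      ∀ (l : G →* ℂˣ) (χ' : IrrCharacter G), χ' ∈ B → (∀ x ∈ S, l x = 1) → (∃ j : ℕ, orderOf l = p ^ j) →
      (∀ g, (l g : ℂ) * (χ' : G → ℂ) g = (χ' : G → ℂ) g) → orderOf l ≤ p ^ j := by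
  classical
  let P : ℕ → Prop := fun j => ∃ (l : G →* ℂˣ) (χ' : IrrCharacter G), χ' ∈ B ∧ (∀ x ∈ S, l x = 1) ∧
    orderOf l = p ^ j ∧ ∀ g, (l g : ℂ) * (χ' : G → ℂ) g = (χ' : G → ℂ) g
  have hbd : ∀ j, P j → j ≤ S.index := by
    rintro j ⟨l, χ', -, hl, ho, -⟩
    have h2 : orderOf l ∣ S.index := by
      rw [← index_ker]
      exact Subgroup.index_dvd_of_le (fun x hx => hl x hx)
    have h3 := Nat.le_of_dvd (Nat.pos_of_ne_zero Subgroup.index_ne_zero_of_finite) h2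
    rw [ho] at h3
    exact (Nat.lt_pow_self h𝔐.1.one_lt).le.trans h3
  have h0 : P 0 := ⟨1, χ, hχ, fun x _ => rfl, by rw [orderOf_one, pow_zero], fun g => by
    rw [MonoidHom.one_apply, Units.val_one, one_mul]⟩
  have hspec := Nat.findGreatest_spec (P := P) (Nat.zero_le S.index) h0
  refine ⟨Nat.findGreatest P S.index, ?_, ?_⟩
  · obtain ⟨l, χ', h1, h2, h3, h4⟩ := hspec
    exact L.dvd_bsz h𝔐 hm hlab hB hχ ht ht' h1 h2 h3 h4
  · rintro l χ' h1 h2 ⟨j, h3⟩ h4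
    have hPj : P j := ⟨l, χ', h1, h2, h3, h4⟩
    rw [h3]
    exact Nat.pow_le_pow_right h𝔐.1.pos (Nat.le_findGreatest (hbd j hPj) hPj)

/-- (ii) The linear characters of order prime to `p` fixing a Brauer character of the block stabilise the family. -/
theorem card_fixing_le (h𝔐 : IsPModular p 𝔐) (hV : Above 𝔐 V) [S.Normal] (hcyc : IsCyclic (G ⧸ S)) {m : ℕ}
    (hm : n ≤ m) (hlab : R.Bij m) {B : Set (IrrCharacter G)} (hB : IsPBlock 𝔐 B) {χ : IrrCharacter G}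
    (hχ : χ ∈ B) {t : LabZ Q M m n} (ht : R.IsLb χ t) {i : IBr V G} (hi : i ∈ ibrUnder V B) :
    Nat.card {l : G →* ℂˣ // ((∀ x ∈ S, l x = 1) ∧ (orderOf l).Coprime p) ∧
      (fun g => (l g : ℂ) * phi p i g) = phi p i} ≤ Nat.card {a : ZMod M // Stab Q M p t a} := by
  have hMp := isPrime_of_isPModular h𝔐
  have := finite_APrime S p inferInstance hcyc
  let f : {l : G →* ℂˣ // ((∀ x ∈ S, l x = 1) ∧ (orderOf l).Coprime p) ∧
      (fun g => (l g : ℂ) * phi p i g) = phi p i} → {a : ZMod M // Stab Q M p t a} := fun l =>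
    ⟨L.lab ⟨l.1, l.2.1⟩, by
      have hfix := l.2.2
      have h3 : i ∈ ibrUnder V (tl l.1 '' B) :=
        ibrUnder_tl h𝔐 hV hB (fun g => (congrFun hfix g).symm) hi
      have h4 : tl l.1 '' B = B := eq_of_ibrUnder h𝔐 hV (isPBlock_tl hMp l.1 hB) hB h3 hi
      have h5 : tl l.1 χ ∈ B := h4 ▸ ⟨χ, hχ, rfl⟩
      refine R.stab_of_block (χ := χ) (χ' := tl l.1 χ) (B := B) (l := fun g => (l.1 g : ℂ))
        (fun χ hχ χ' hχ' t t' ht ht' => R.sameFam_of_mem h𝔐 hm hlab hB hχ hχ' ht ht') hχ h5 ht _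
        (L.lab_spec ⟨l.1, l.2.1⟩).1 (L.lab_pReg ⟨l.1, l.2.1⟩) ?_ ?_
      · intro x hx
        rw [L.tw _ (L.lab_spec ⟨l.1, l.2.1⟩).1 x hx, (L.lab_spec ⟨l.1, l.2.1⟩).2]
      · rfl⟩
  refine Nat.card_le_card_of_injective f ?_
  intro l l' h
  have h0 : L.lab ⟨l.1, l.2.1⟩ = L.lab ⟨l'.1, l'.2.1⟩ := congrArg (fun z : {a : ZMod M // Stab Q M p t a} => z.1) h
  have h1 := L.lab_injective h0
  exact Subtype.ext (congrArg (fun z : APrime S p => (z : G →* ℂˣ)) h1)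

/-- (iii) The number of constituents on `pKer S p` divides all the multiplicities. -/
theorem card_pKer_dvd (h𝔐 : IsPModular p 𝔐) (hV : Above 𝔐 V) [S.Normal] (hcyc : IsCyclic (G ⧸ S)) {m : ℕ}
    (hm : n ≤ m) (hlab : R.Bij m) {B : Set (IrrCharacter G)} (hB : IsPBlock 𝔐 B) {χ : IrrCharacter G}
    (hχ : χ ∈ B) {t : LabZ Q M m n} (ht : R.IsLb χ t) (ht' : POnly M p t.t) {i : IBr V G}
    (hi : i ∈ ibrUnder V B) {O : Finset (IBr V (pKer S p))} (hO : IsRes p (pKer S p) i O) (δ : ZMod M) :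
    O.card ∣ bsz (t.t δ) := by
  obtain ⟨l, χ', h1, h2, h3, ⟨j, h4⟩, h5⟩ := exists_fixed_pKer h𝔐 hV S hcyc hB hi hO
  rw [h4] at h3 ⊢
  exact L.dvd_bsz h𝔐 hm hlab hB hχ ht ht' h1 h2 h3 h5 δ

/-- (i) The descent inequality, `κ` on the right-hand side. -/
theorem desc_SF_kappa (h𝔐 : IsPModular p 𝔐) (hV : Above 𝔐 V) [S.Normal] (hcyc : IsCyclic (G ⧸ S)) {m : ℕ}
    {B : Set (IrrCharacter G)} (hB : IsPBlock 𝔐 B)
    {B' : Set (IrrCharacter S)} (hB' : IsPBlock 𝔐 B') (hcov : Cov S B B') {t : LabZ Q M m n}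
    (hgen : ∃ a : ZMod M, SF Q M p t a ∧ addOrderOf a = Nat.card {b : ZMod M // SF Q M p t b})
    [𝔐.IsPrime] (hNz : ∀ a : ZMod M, SF Q M p t a → ∃ x : G, H624.Sl.Nz 𝔐 (L.ln a) B x)
    [Fintype (ibrUnder V B)] (O : IBr V G → Finset (IBr V (pKer S p)))
    (hO : ∀ i ∈ ibrUnder V B, IsRes p (pKer S p) i (O i)) :
    blockRank p B' * Nat.card {b : ZMod M // SF Q M p t b} ≤ ∑ i : ibrUnder V B,
      Nat.card {l : G →* ℂˣ // ((∀ x ∈ S, l x = 1) ∧ (orderOf l).Coprime p) ∧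
        (fun g => (l g : ℂ) * phi p (i : IBr V G) g) = phi p (i : IBr V G)} * (O i).card := by
  obtain ⟨a, ha, hord⟩ := hgen
  have hta : TorZ Q M 1 a := ha.1.1
  have hpa : PReg M p a := ha.1.2.1
  obtain ⟨x, hx⟩ := hNz a ha
  have hPP : H624.Sl.PPrime p (L.ln a) := by
    refine ⟨orderOf (L.ln a), ?_, ?_, ?_⟩
    · rw [L.ord a hta]
      exact addOrderOf_pos a
    · rw [L.ord a hta]
      exact fun h => h𝔐.1.one_lt.ne' (Nat.eq_one_of_dvd_coprimes hpa h (dvd_refl p))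
    · intro g
      rw [← MonoidHom.pow_apply, pow_orderOf_eq_one]
      rfl
  have := Fintype.ofFinite (L.ln a).ker
  have h1 := desc_le h𝔐 hV S hcyc hB hB' hcov (L.ln a) (L.triv a hta)
    (fun c hc hcc g hg => H624.Sl.stab_le h𝔐 hPP hB hx hc hcc g hg) O hO
  rw [L.ord a hta, hord] at h1
  exact h1

/-- **Section 3, (3c).** -/
theorem mul_blockRank_le_of_one (h𝔐 : IsPModular p 𝔐) (hV : Above 𝔐 V) [S.Normal] (hcyc : IsCyclic (G ⧸ S))
    (hQp : (Q : ZMod p) = 1) {m : ℕ} (hn : 0 < n)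
    (hm : n ≤ m) (hlab : R.Bij m) {B : Set (IrrCharacter G)} (hB : IsPBlock 𝔐 B)
    {B' : Set (IrrCharacter S)} (hB' : IsPBlock 𝔐 B') (hcov : Cov S B B')
    {χ : IrrCharacter G} (hχ : χ ∈ B) {t : LabZ Q M m n} (ht : R.IsLb χ t) (ht' : POnly M p t.t)
    (hgen : ∃ a : ZMod M, SF Q M p t a ∧ addOrderOf a = Nat.card {b : ZMod M // SF Q M p t b})
    [𝔐.IsPrime] (hNz : ∀ a : ZMod M, SF Q M p t a → ∃ x : G, H624.Sl.Nz 𝔐 (L.ln a) B x)
    (hex : ¬ (p = 2 ∧ ∃ δ0, (∀ δ, 0 < bsz (t.t δ) → SameZ Q M δ0 δ) ∧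
      (bsz (t.t δ0) = 2 ∨ bsz (t.t δ0) = 4 ∨ bsz (t.t δ0) = 8))) :
    p * blockRank p B' ≤ p ^ totW Q M p t.t := by
  classical
  have hcard : Nat.card {b : ZMod M // SF Q M p t b} =
      (Finset.univ.filter fun b : ZMod M => SF Q M p t b).card := by
    rw [Nat.card_eq_fintype_card, Fintype.card_subtype]
  rw [hcard] at hgen
  obtain ⟨j, hj, hj'⟩ := L.exists_max h𝔐 hm hlab hB hχ ht ht'
  have h1 := L.desc_SF h𝔐 hV hcyc hm hlab hB hB' hcov hχ ht hgen hNz (p ^ j) hj'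
  have h2 := H610.GLB.sum_nfix_le_one h𝔐.1 R.unit hQp hm hn t ht' j hj hex
  have h3 := (Nat.mul_le_mul_left p h1).trans h2
  rw [mul_comm (blockRank p B'), ← mul_assoc, mul_comm p, mul_assoc] at h3
  refine Nat.le_of_mul_le_mul_left h3 ?_
  obtain ⟨a, ha, -⟩ := hgen
  exact Finset.card_pos.2 ⟨a, Finset.mem_filter.2 ⟨Finset.mem_univ _, ha⟩⟩

end LinData

end

end Cfsg.Agent.H666.Clif
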