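import Cfsg.Agent.H666.Clif.Main
import Cfsg.Agent.H648.Dict

/-!
# (STAR): the Clifford inequality for a chain `S ≤ N ≤ G`
-/

set_option autoImplicit false

open Cfsg IsLocalRing Module
open scoped ComplexConjugate
open Cfsg.Agent.H657 Cfsg.Agent.H577.GLB
open Cfsg.Agent.H608.BlockRank Cfsg.Agent.Blocks.Basic Cfsg.Agent.Blocks.Local
open Cfsg.Agent.Blocks.Covering (conjIrr conjIrr_apply sameBlock_conjIrr conjIrr_conjIrr conjIrr_one)

namespace Cfsg.Agent.H666.Clif

universe u

section

variable {V : ValuationSubring ℂ} {p : ℕ} {M : Ideal AlgInt}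

/-- Transport of a Brauer character along an isomorphism. -/
theorem exists_comp {H K : Type*} [Group H] [Group K] (e : H ≃* K) (j : IBr V K) :
    ∃ j' : IBr V H, ∀ x, phi p j' x = phi p j (e x) := by
  let σ : Representation (ResidueField V) H (Fin j.deg → ResidueField V) := j.rep.comp e.toMonoidHom
  have hσ : ∀ x, σ x = j.rep (e x) := fun _ => rfl
  have hirr : σ.IsIrreducible := by
    let E : Subrepresentation σ ≃o Subrepresentation j.rep :=
      { toFun := fun A => ⟨A.toSubmodule, fun g v hv => by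
          have := A.apply_mem_toSubmodule (e.symm g) hv
          rwa [hσ, e.apply_symm_apply] at this⟩
        invFun := fun A => ⟨A.toSubmodule, fun g v hv => A.apply_mem_toSubmodule (e g) hv⟩
        left_inv := fun _ => rfl
        right_inv := fun _ => rfl
        map_rel_iff' := Iff.rfl }
    exact (OrderIso.isSimpleOrder_iff E).2 j.rep_irr
  have htr : ∀ x, LinearMap.trace (ResidueField V) _ (σ x) = j.1 (e x) := fun x => j.trace_rep (e x)
  refine ⟨⟨fun x => j.1 (e x), j.deg, σ, hirr, htr⟩, fun x => ?_⟩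
  have hreg : IsPRegular p x ↔ IsPRegular p (e x) := by
    unfold IsPRegular
    rw [e.orderOf_eq]
  by_cases hx : IsPRegular p x
  · rw [phi_eq_bc _ σ hirr htr hx, phi_of j (hreg.1 hx)]
    rfl
  · rw [phi_of_not _ hx, phi_of_not _ (fun h => hx (hreg.2 h))]

variable {G : Type u} [Group G] [Finite G]

/-- The number of constituents is the index of the stabilizer. -/
theorem card_eq_index (hM : IsPModular p M) (hV : Above M V) (N : Subgroup G) [N.Normal]
    (hc : IsCyclic (G ⧸ N)) {O : Finset (IBr V N)}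
    (h1 : ∀ j ∈ O, ∀ g : G, ∃ j' ∈ O, phi p j' = cj N g (phi p j))
    (h2 : ∀ j ∈ O, ∀ j' ∈ O, ∃ g : G, phi p j' = cj N g (phi p j)) {j0 : IBr V N} (hj0 : j0 ∈ O) :
    O.card = (stab N (phi p j0)).index := by
  classical
  have : Fact p.Prime := ⟨hM.1⟩
  have : CharP (ResidueField V) p := hV.charP hM
  have hinj : Function.Injective (fun j : IBr V N => phi p j) :=
    (linearIndependent_phi (V := V) (G := N) (p := p)).injective
  set T := stab N (phi p j0) with hT
  have hNT : N ≤ T := le_stab N (phi_isClassFunction p j0)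
  have hTn : T.Normal := normal_of_le N hc hNT
  choose F hF1 hF2 using h1 j0 hj0
  have hFeq : ∀ g h : G, F g = F h ↔ g * h⁻¹ ∈ T := by
    intro g h
    rw [hT, mem_stab, ← cj_cj]
    constructor
    · intro e
      rw [← hF2 g, e, hF2 h, cj_cj, mul_inv_cancel, cj_one]
    · intro e
      apply hinj
      change phi p (F g) = phi p (F h)
      rw [hF2, hF2]
      have h3 := congrArg (cj N h) e
      rw [cj_cj, cj_cj, inv_mul_cancel, mul_one] at h3
      rw [h3]
  rw [Subgroup.index, ← Fintype.card_coe, ← Nat.card_eq_fintype_card]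
  refine (Nat.card_congr (Equiv.ofBijective (Quotient.lift
    (s := QuotientGroup.leftRel T) (fun g : G => (⟨F g, hF1 g⟩ : O)) ?_) ⟨?_, ?_⟩)).symm
  · intro a b hab
    replace hab : a⁻¹ * b ∈ T := QuotientGroup.leftRel_apply.1 hab
    apply Subtype.ext
    rw [hFeq]
    have h4 := hTn.conj_mem _ (T.inv_mem hab) a
    have h5 : a * (a⁻¹ * b)⁻¹ * a⁻¹ = a * b⁻¹ := by group
    rwa [h5] at h4
  · intro a b hab
    induction a using Quotient.inductionOn with | _ a
    induction b using Quotient.inductionOn with | _ b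
    have h3 : F a = F b := congrArg Subtype.val hab
    rw [hFeq] at h3
    apply Quotient.sound
    refine QuotientGroup.leftRel_apply.2 ?_
    have h4 := hTn.conj_mem _ (T.inv_mem h3) b⁻¹
    have h5 : b⁻¹ * (a * b⁻¹)⁻¹ * b⁻¹⁻¹ = a⁻¹ * b := by group
    rwa [h5] at h4
  · rintro ⟨j, hj⟩
    obtain ⟨g, hg⟩ := h2 j0 hj0 j hj
    refine ⟨Quotient.mk _ g, ?_⟩
    apply Subtype.ext
    apply hinj
    change phi p (F g) = phi p j
    rw [hF2, hg]

theorem cj_conjIrr (N : Subgroup G) [N.Normal] (g : G) (θ : IrrCharacter N) :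
    cj N g (θ : N → ℂ) = (conjIrr N g θ : N → ℂ) := rfl

theorem pReg_cj (N : Subgroup G) [N.Normal] (g : G) (f : N → ℂ) :
    pReg p (cj N g f) = cj N g (pReg p f) := by
  funext x
  have hx : IsPRegular p (⟨g * x * g⁻¹, (inferInstance : N.Normal).conj_mem x x.2 g⟩ : N) ↔
      IsPRegular p x := by
    unfold IsPRegular
    rw [← Subgroup.orderOf_coe, ← Subgroup.orderOf_coe x]
    have := (MulAut.conj g).orderOf_eq (x : G)
    rw [MulAut.conj_apply] at this
    rw [this]
  by_cases h : IsPRegular p x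
  · rw [pReg_of h]
    exact (pReg_of (hx.2 h) _).symm
  · rw [pReg_of_not h]
    exact (pReg_of_not (fun h' => h (hx.1 h')) _).symm

theorem ibrUnder_conj (hM : IsPModular p M) (hV : Above M V) (N : Subgroup G) [N.Normal] (g : G)
    {c : Set (IrrCharacter N)} (hc : IsPBlock M c) {j j' : IBr V N} (h : phi p j' = cj N g (phi p j))
    (hj : j ∈ ibrUnder V c) : j' ∈ ibrUnder V (conjIrr N g '' c) := by
  have : Fact p.Prime := ⟨hM.1⟩
  have : CharP (ResidueField V) p := hV.charP hM
  have hMp := isPrime_of_isPModular hM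
  have h1 : phi p j ∈ Submodule.span ℂ (phi p '' ibrUnder V c) := Submodule.subset_span ⟨j, hj, rfl⟩
  rw [← map_pReg_charSpan hM hV (isUnion_of_isPBlock hMp hc)] at h1
  obtain ⟨f, hf, hf'⟩ := h1
  have h2 : phi p j' ∈ (charSpan (conjIrr N g '' c)).map (pReg p) := by
    refine ⟨cj N g f, ?_, ?_⟩
    · change cj N g f ∈ charSpan (conjIrr N g '' c)
      unfold charSpan at hf ⊢
      clear hf'
      induction hf using Submodule.span_induction with
      | mem f hf =>
        obtain ⟨χ, hχ, rfl⟩ := hf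
        exact Submodule.subset_span ⟨conjIrr N g χ, ⟨χ, hχ, rfl⟩, rfl⟩
      | zero => exact Submodule.zero_mem _
      | add f f' _ _ h1 h2 => exact Submodule.add_mem _ h1 h2
      | smul a f _ h1 => exact Submodule.smul_mem _ a h1
    · rw [pReg_cj, hf', h]
  rw [map_pReg_charSpan hM hV (isUnion_of_isPBlock hMp (isPBlock_conj hMp N g hc))] at h2
  by_contra hcon
  exact (linearIndependent_phi (V := V) (G := N) (p := p)).notMem_span_image hcon h2

theorem eq_of_ibrUnder (hM : IsPModular p M) (hV : Above M V) {c c' : Set (IrrCharacter G)}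
    (hc : IsPBlock M c) (hc' : IsPBlock M c') {j : IBr V G} (h : j ∈ ibrUnder V c)
    (h' : j ∈ ibrUnder V c') : c = c' := by
  have hMp := isPrime_of_isPModular hM
  obtain ⟨χ, hχ, h1⟩ := h
  obtain ⟨ψ, hψ, h2⟩ := h'
  exact eq_of_mem_mem hMp hc hc' (χ := ψ)
    (Blocks.Covering.mem_of_sameBlock hMp hc hχ (under_sameBlock hM hV χ.2 ψ.2 h1 h2)) hψ

/-- The conjugate of a set of constituents. -/
theorem conjN_eq (N : Subgroup G) [N.Normal] (g : G) (c : Set (IrrCharacter N)) :
    H648.Dict.conjN N g c = conjIrr N g⁻¹ '' c := by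
  unfold H648.Dict.conjN
  refine Set.image_congr fun θ _ => ?_
  apply Subtype.ext
  funext x
  refine congrArg (θ : N → ℂ) (Subtype.ext ?_)
  change g⁻¹ * (x : G) * g = g⁻¹ * (x : G) * g⁻¹⁻¹
  rw [inv_inv]

end

section

variable {V : ValuationSubring ℂ} {p : ℕ} {M : Ideal AlgInt} {G : Type u} [Group G] [Finite G]

/-- W5 (STAR): `S ≤ N ≤ G` normal, `G / S` cyclic, `B` covers `c`, `c` covers `B'`, `Stab_G(c) = N`. -/
theorem star (hM : IsPModular p M) (hV : Above M V)
    (S N : Subgroup G) [S.Normal] [N.Normal] [Fintype N] (hSN : S ≤ N) (hcyc : IsCyclic (G ⧸ S))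
    {B : Set (IrrCharacter G)} (hB : IsPBlock M B) {c : Set (IrrCharacter N)} (hc : IsPBlock M c)
    {B' : Set (IrrCharacter S)} (hB' : IsPBlock M B')
    (hBc : ∃ χ ∈ B, ∃ θ ∈ c, classInner (fun n : N => (χ : G → ℂ) n) (θ : N → ℂ) ≠ 0)
    (hcB' : ∃ ε ∈ c, ∃ η ∈ B', ∑ᶠ x : S, (η : S → ℂ) x *
      (starRingEnd ℂ) ((ε : N → ℂ) ⟨x, hSN x.2⟩) ≠ 0)
    (hst : ∀ g : G, H648.Dict.conjN N g c = c → g ∈ N)
    (O : IBr V G → Finset (IBr V S))
    (hO : ∀ i ∈ ibrUnder V B, ∀ x : S, phi p i x = ∑ j ∈ O i, phi p j x)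
    [Fintype (ibrUnder V B)] :
    blockRank p B' * N.index ≤ ∑ i : ibrUnder V B, (O i).card := by
  classical
  have : Fact p.Prime := ⟨hM.1⟩
  have : CharP (ResidueField V) p := hV.charP hM
  have := Fintype.ofFinite G
  have hMp := isPrime_of_isPModular hM
  -- the groups
  set S' : Subgroup N := S.subgroupOf N with hS'
  have hS'n : S'.Normal := Subgroup.normal_subgroupOf
  have hGN : IsCyclic (G ⧸ N) := by
    let F : G ⧸ S →* G ⧸ N := QuotientGroup.map S N (MonoidHom.id G) (by
      intro x hx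
      exact hSN hx)
    refine isCyclic_of_surjective F ?_
    intro y
    obtain ⟨g, rfl⟩ := QuotientGroup.mk_surjective y
    exact ⟨QuotientGroup.mk g, rfl⟩
  have hNS : IsCyclic (N ⧸ S') := by
    let F : N ⧸ S' →* G ⧸ S := QuotientGroup.map S' S N.subtype (by
      intro x hx
      exact hx)
    refine isCyclic_of_injective F ?_
    rw [injective_iff_map_eq_one]
    intro y hy
    obtain ⟨n, rfl⟩ := QuotientGroup.mk_surjective y
    have h1 : (QuotientGroup.mk (n : G) : G ⧸ S) = 1 := hy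
    rw [QuotientGroup.eq_one_iff] at h1
    rw [QuotientGroup.eq_one_iff]
    exact h1
  let e : S' ≃* S := Subgroup.subgroupOfEquivOfLe hSN
  have he : ∀ x : S', ((e x : S) : G) = ((x : N) : G) := fun x => rfl
  -- the block of `S'`
  set B'' : Set (IrrCharacter S') := H649.blkMap e.symm B' with hB''
  have hB''p : IsPBlock M B'' := H649.isPBlock_blkMap hB'
  have hrank : blockRank p B'' = blockRank p B' := H649.blockRank_blkMap e.symm p B'
  -- Clifford theory
  choose P hPne hP hP1 hP2 using H112.Clif.clifford_cyclic (V := V) hM hV S' hNS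
  have hcov : Cov S' c B'' := by
    obtain ⟨ε, hε, η, hη, hne⟩ := hcB'
    refine ⟨ε, hε, H649.irrMap e.symm η, ⟨η, hη, rfl⟩, ?_⟩
    have h1 : ∑ᶠ x : S', (H649.irrMap e.symm η : S' → ℂ) x * (starRingEnd ℂ) ((ε : N → ℂ) x) =
        ∑ᶠ x : S, (η : S → ℂ) x * (starRingEnd ℂ) ((ε : N → ℂ) ⟨x, hSN x.2⟩) := by
      rw [← finsum_comp_equiv e.toEquiv]
      refine finsum_congr fun x => ?_
      rfl
    rw [h1]
    exact hne
  have := Fintype.ofFinite (ibrUnder V c)
  have hmain := blockRank_le_sum_gen hM hV S' hNS hc hB''p hcov P (fun i _ => hP i)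
  rw [hrank] at hmain
  -- the Brauer characters of `G` over those of `c`
  obtain ⟨χ, hχ, θ, hθ, hχθ⟩ := hBc
  have hov : Ov N χ θ := (ov_iff N χ θ).2 hχθ
  choose Φ hΦ Q hQ hψQ using fun ψ : ibrUnder V c =>
    exists_ibr_over hM hV N hGN (H112.Clif.exists_over hM hV N hGN) hB hχ hc hθ hov ψ.2
  have hQcl : ∀ ψ : ibrUnder V c,
      (∀ j ∈ Q ψ, ∀ g : G, ∃ j' ∈ Q ψ, phi p j' = cj N g (phi p j)) ∧
      (∀ j ∈ Q ψ, ∀ j' ∈ Q ψ, ∃ g : G, phi p j' = cj N g (phi p j)) := by
    intro ψ
    obtain ⟨O', -, h1, h2, h3⟩ := H112.Clif.clifford_cyclic (V := V) hM hV N hGN (Φ ψ)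
    rw [isRes_unique hM hV N (hQ ψ) h1]
    exact ⟨h2, h3⟩
  -- the stabilizer
  have hstab : ∀ (ψ ψ' : ibrUnder V c) (g : G), phi p (ψ' : IBr V N) = cj N g (phi p (ψ : IBr V N)) →
      g ∈ N := by
    intro ψ ψ' g h
    have h1 := ibrUnder_conj hM hV N g hc h ψ.2
    have h2 := eq_of_ibrUnder hM hV hc (isPBlock_conj hMp N g hc) ψ'.2 h1
    have h3 := hst g⁻¹ (by rw [conjN_eq, inv_inv, ← h2])
    exact (N.inv_mem_iff).1 h3
  have hinjphi : Function.Injective (fun j : IBr V N => phi p j) :=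
    (linearIndependent_phi (V := V) (G := N) (p := p)).injective
  have hQcard : ∀ ψ : ibrUnder V c, (Q ψ).card = N.index := by
    intro ψ
    rw [card_eq_index hM hV N hGN (hQcl ψ).1 (hQcl ψ).2 (hψQ ψ)]
    congr 1
    refine le_antisymm (fun g hg => hstab ψ ψ g ?_) (le_stab N (phi_isClassFunction p _))
    rw [mem_stab] at hg
    exact hg.symm
  -- injectivity
  have hΦinj : Function.Injective (fun ψ : ibrUnder V c => (⟨Φ ψ, hΦ ψ⟩ : ibrUnder V B)) := by
    intro ψ ψ' h
    have h1 : Φ ψ = Φ ψ' := congrArg Subtype.val h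
    have h2 : Q ψ = Q ψ' := by
      have h3 := hQ ψ'
      rw [← h1] at h3
      exact isRes_unique hM hV N (hQ ψ) h3
    have h3 : (ψ' : IBr V N) ∈ Q ψ := by
      rw [h2]
      exact hψQ ψ'
    obtain ⟨g, hg⟩ := (hQcl ψ).2 _ (hψQ ψ) _ h3
    have h4 := hstab ψ ψ' g hg
    rw [cj_classFun N (phi_isClassFunction p _) h4] at hg
    exact Subtype.ext (hinjphi hg.symm)
  -- transport from `S` to `S'`
  choose T hT using fun j : IBr V S => exists_comp (p := p) e j
  have hinjS : Function.Injective (fun j : IBr V S => phi p j) :=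
    (linearIndependent_phi (V := V) (G := S) (p := p)).injective
  have hinjS' : Function.Injective (fun j : IBr V S' => phi p j) :=
    (linearIndependent_phi (V := V) (G := S') (p := p)).injective
  have hTinj : Function.Injective T := by
    intro j j' h
    apply hinjS
    funext x
    have h1 := hT j (e.symm x)
    have h2 := hT j' (e.symm x)
    rw [h] at h1
    rw [h1, e.apply_symm_apply] at h2
    exact h2
  -- additivity of the numbers of constituents
  have hadd : ∀ ψ : ibrUnder V c, (O (Φ ψ)).card = ∑ ψ' ∈ Q ψ, (P ψ').card := by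
    intro ψ
    have := Fintype.ofFinite (IBr V S')
    have h1 : ∑ j : IBr V S', ((if j ∈ (O (Φ ψ)).image T then (1 : ℂ) else 0) -
        (((Q ψ).filter (fun ψ' => j ∈ P ψ')).card : ℂ)) • phi p j = 0 := by
      simp only [sub_smul]
      rw [Finset.sum_sub_distrib, sub_eq_zero]
      funext x
      have h2 : (∑ j : IBr V S', (if j ∈ (O (Φ ψ)).image T then (1 : ℂ) else 0) • phi p j) x =
          phi p (Φ ψ) ((x : N) : G) := by
        rw [Finset.sum_apply]
        simp only [Pi.smul_apply, smul_eq_mul, ite_mul, one_mul, zero_mul]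
        rw [Finset.sum_ite_mem, Finset.univ_inter, Finset.sum_image (fun a _ b _ h => hTinj h)]
        have h3 := hO (Φ ψ) (hΦ ψ) (e x)
        rw [he] at h3
        rw [h3]
        exact Finset.sum_congr rfl fun j _ => hT j x
      have h3 : (∑ j : IBr V S', (((Q ψ).filter (fun ψ' => j ∈ P ψ')).card : ℂ) • phi p j) x =
          phi p (Φ ψ) ((x : N) : G) := by
        rw [hQ ψ (x : N), Finset.sum_apply]
        have h4 : ∀ ψ' ∈ Q ψ, phi p ψ' (x : N) = ∑ j : IBr V S', if j ∈ P ψ' then phi p j x else 0 := by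
          intro ψ' _
          rw [hP ψ' x, Finset.sum_ite_mem, Finset.univ_inter]
        rw [Finset.sum_congr rfl h4, Finset.sum_comm]
        refine Finset.sum_congr rfl fun j _ => ?_
        rw [Pi.smul_apply, smul_eq_mul, ← Finset.sum_filter, Finset.sum_const, nsmul_eq_mul]
      rw [h2, h3]
    have h5 := Fintype.linearIndependent_iff.1 (linearIndependent_phi (V := V) (G := S') (p := p)) _ h1
    have h6 : ∀ j : IBr V S', (if j ∈ (O (Φ ψ)).image T then 1 else 0) =
        ((Q ψ).filter (fun ψ' => j ∈ P ψ')).card := by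
      intro j
      have h7 := sub_eq_zero.1 (h5 j)
      split_ifs at h7 ⊢ <;> exact_mod_cast h7
    have h8 : (O (Φ ψ)).card = ∑ j : IBr V S', if j ∈ (O (Φ ψ)).image T then 1 else 0 := by
      rw [Finset.sum_ite_mem, Finset.univ_inter, Finset.sum_const, smul_eq_mul, mul_one,
        Finset.card_image_of_injective _ hTinj]
    rw [h8, Finset.sum_congr rfl fun j _ => h6 j]
    have h9 : ∀ ψ' ∈ Q ψ, (P ψ').card = ∑ j : IBr V S', if j ∈ P ψ' then 1 else 0 := by
      intro ψ' _
      rw [Finset.sum_ite_mem, Finset.univ_inter, Finset.sum_const, smul_eq_mul, mul_one]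
    rw [Finset.sum_congr rfl h9, Finset.sum_comm]
    refine Finset.sum_congr rfl fun j _ => ?_
    rw [← Finset.sum_filter, Finset.sum_const, smul_eq_mul, mul_one]
  -- conjugate Brauer characters of `N` have the same number of constituents
  have hconj : ∀ (ψ ψ' : IBr V N) (g : G), phi p ψ' = cj N g (phi p ψ) → (P ψ').card = (P ψ).card := by
    intro ψ ψ' g h
    let τ : S' ≃* S' := (e.trans (MulAut.conjNormal (H := S) g)).trans e.symm
    have hτ : ∀ x : S', (((τ x : S') : N) : G) = g * ((x : N) : G) * g⁻¹ := fun x => rfl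
    choose U hU using fun j : IBr V S' => exists_comp (p := p) τ j
    have hUinj : Function.Injective U := by
      intro j j' h
      apply hinjS'
      funext x
      have h1 := hU j (τ.symm x)
      have h2 := hU j' (τ.symm x)
      rw [h] at h1
      rw [h1, τ.apply_symm_apply] at h2
      exact h2
    have h1 : IsRes p S' ψ' ((P ψ).image U) := by
      intro x
      rw [Finset.sum_image (fun a _ b _ h => hUinj h), h]
      have h2 : cj N g (phi p ψ) (x : N) = phi p ψ ((τ x : S') : N) := by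
        unfold cj
        congr 1
      rw [h2, hP ψ (τ x)]
      exact Finset.sum_congr rfl fun j _ => (hU j x).symm
    rw [isRes_unique hM hV S' (hP ψ') h1, Finset.card_image_of_injective _ hUinj]
  have hcard : ∀ ψ : ibrUnder V c, (O (Φ ψ)).card = N.index * (P ψ).card := by
    intro ψ
    rw [hadd ψ, ← hQcard ψ, ← smul_eq_mul, ← Finset.sum_const]
    refine Finset.sum_congr rfl fun ψ' hψ' => ?_
    obtain ⟨g, hg⟩ := (hQcl ψ).2 _ (hψQ ψ) _ hψ'
    exact hconj _ _ g hg
  calc blockRank p B' * N.index ≤ (∑ i : ibrUnder V c, (P i).card) * N.index :=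
        Nat.mul_le_mul_right _ hmain
    _ = ∑ ψ : ibrUnder V c, (O ((⟨Φ ψ, hΦ ψ⟩ : ibrUnder V B) : IBr V G)).card := by
        rw [Finset.sum_mul]
        refine Finset.sum_congr rfl fun ψ _ => ?_
        rw [hcard ψ, mul_comm]
    _ = ∑ i ∈ Finset.univ.image (fun ψ : ibrUnder V c => (⟨Φ ψ, hΦ ψ⟩ : ibrUnder V B)), (O i).card := by
        rw [Finset.sum_image (fun a _ b _ h => hΦinj h)]
    _ ≤ ∑ i : ibrUnder V B, (O i).card := Finset.sum_le_sum_of_subset (Finset.subset_univ _)

end

end Cfsg.Agent.H666.Clif
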